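import Cfsg.Agent.H915.L33Eig
import Cfsg.Agent.H915.LD
import Cfsg.Agent.S2086
import Cfsg.Agent.ClassicalGeometry.AutPSL.Main

/-!
# Cores of degree 12 with socle `L₃(3)` (helper915)
-/

set_option autoImplicit false
set_option linter.unusedSectionVars false

namespace Cfsg.Agent.H915.L33

open Cfsg Cfsg.Geo Matrix Module Cfsg.Agent.H915.LD
open Cfsg.Agent.ClassicalGeometry.AutPSL.Root Cfsg.Agent.ClassicalGeometry.AutPSL.Auto

universe u

/-- `L₃(3)` -/
abbrev T33 := Matrix.ProjectiveSpecialLinearGroup (Fin 3) (ZMod 3)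

theorem center_eq : Subgroup.center G = ⊥ := by
  rw [Subgroup.eq_bot_iff_forall]
  intro g hg
  obtain ⟨r, hr, h⟩ := Matrix.SpecialLinearGroup.mem_center_iff.1 hg
  have key : ∀ r : ZMod 3, r ^ 3 = 1 → r = 1 := by decide
  have h1 : r = 1 := key r hr
  apply Subtype.ext
  rw [← h, h1, map_one]
  rfl

theorem pr_injective : Function.Injective (pr : G →* T33) := by
  rw [injective_iff_map_eq_one]
  intro x hx
  have h := (pr_eq_one_iff x).1 hx
  rw [center_eq] at h
  exact h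

/-- `SL₃(3) = PSL₃(3)` -/
noncomputable def prE : G ≃* T33 := MulEquiv.ofBijective pr ⟨pr_injective, pr_surjective⟩

theorem prE_apply (g : G) : prE g = pr g := rfl

theorem units_key : ∀ r : ZMod 3, r ≠ 0 → (r = 1 ∨ r = -1) := by decide

theorem cube_key : (-1 : ZMod 3) ^ 3 * -1 = 1 := by decide

theorem cj_inner_one (A : GL (Fin 3) (ZMod 3)) (hd : (A : Matrix (Fin 3) (Fin 3) (ZMod 3)).det = 1) :
    ∃ g : G, ∀ x : G, cj A x = g * x * g⁻¹ := by
  let g : G := ⟨A.1, hd⟩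
  have h2 : (g⁻¹).1 = ((A⁻¹ : GL (Fin 3) (ZMod 3)) : Matrix (Fin 3) (Fin 3) (ZMod 3)) := by
    have h3 : (g⁻¹).1 * (A : Matrix (Fin 3) (Fin 3) (ZMod 3)) = 1 := congrArg Subtype.val (inv_mul_cancel g)
    exact (Units.eq_inv_of_mul_eq_one_right h3)
  refine ⟨g, fun x => ?_⟩
  apply Subtype.ext
  rw [coe_cj, ← h2]
  rfl

theorem cj_neg (A : GL (Fin 3) (ZMod 3)) (x : G) : cj (-A) x = cj A x := by
  apply Subtype.ext
  rw [coe_cj, coe_cj, inv_neg, Units.val_neg, Units.val_neg, neg_mul, neg_mul_neg]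

theorem cj_inner (A : GL (Fin 3) (ZMod 3)) : ∃ g : G, ∀ x : G, cj A x = g * x * g⁻¹ := by
  have hd : (A : Matrix (Fin 3) (Fin 3) (ZMod 3)).det = 1 ∨ (A : Matrix (Fin 3) (Fin 3) (ZMod 3)).det = -1 := by
    apply units_key
    intro h0
    have h1 := A.isUnit.map (Matrix.detMonoidHom)
    rw [Matrix.coe_detMonoidHom, h0] at h1
    exact not_isUnit_zero h1
  rcases hd with hd | hd
  · exact cj_inner_one A hd
  · obtain ⟨g, hg⟩ := cj_inner_one (-A) (by
      rw [Units.val_neg, Matrix.det_neg, hd, Fintype.card_fin]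
      exact cube_key)
    exact ⟨g, fun x => by rw [← hg, cj_neg]⟩

theorem fld_one (σ : ZMod 3 ≃+* ZMod 3) : (fld σ : MulAut G) = 1 := by
  have h1 : σ = 1 := by
    apply RingEquiv.ext
    intro x
    have h2 : (σ : ZMod 3 →+* ZMod 3) = RingHom.id _ := Subsingleton.elim _ _
    exact RingHom.congr_fun h2 x
  rw [h1, map_one]

/-- **automorphisms of `SL₃(3)`** -/
theorem aut_cases (α : MulAut G) : (∃ g : G, ∀ x, α x = g * x * g⁻¹) ∨ (∃ g : G, ∀ x, α x = g * itr x * g⁻¹) := by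
  have hf : Fact (Nat.Prime 3) := ⟨Nat.prime_three⟩
  have hconj : ∀ x, prE (α x) = (MulAut.congr prE α) (prE x) := by
    intro x
    simp [MulAut.congr]
  rcases Cfsg.Agent.ClassicalGeometry.AutPSL.Main.surj_three 3 (le_refl 3) (MulAut.congr prE α) with
    ⟨A, σ, h⟩ | ⟨A, σ, h⟩
  · left
    obtain ⟨g, hg⟩ := cj_inner A
    refine ⟨g, fun x => ?_⟩
    apply prE.injective
    rw [hconj, h, fld_one, mul_one, prE_apply, lift_pr, hg]
    rfl
  · right
    obtain ⟨g, hg⟩ := cj_inner A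
    refine ⟨g, fun x => ?_⟩
    apply prE.injective
    rw [hconj, h, fld_one, mul_one, prE_apply, lift_pr, MulAut.mul_apply, hg]
    rfl

variable {ι : Type} [Fintype ι] [DecidableEq ι] {F : Type u} [Field F] {P : Subgroup (GL ι F)}

theorem exists_equiv (hC : Core P) (e : Soc P ≃* T33) : Nonempty (G ≃* P) := by
  have hm := S2086.result (F := ZMod 3) (q := 3) (ZMod.card 3) 3 (by norm_num) (by norm_num) (by simp)
  obtain ⟨e', -⟩ := hC.equiv_of_coprime e hm (by simp)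
  exact ⟨prE.trans e'.symm⟩

/-- the representation -/
noncomputable def rep (θ : G ≃* P) : G →* End F (ι → F) :=
  (Matrix.toLinAlgEquiv' : Matrix ι ι F ≃ₐ[F] _).toAlgHom.toRingHom.toMonoidHom.comp
    ((Units.coeHom _).comp (P.subtype.comp θ.toMonoidHom))

theorem rep_apply (θ : G ≃* P) (g : G) (x : ι → F) : rep θ g x = ((θ g : P) : GL ι F).1 *ᵥ x := rfl

theorem exists_data (hC : Core P) (e : Soc P ≃* T33) (n2 : (2 : F) ≠ 0) (n3 : (3 : F) ≠ 0) (hι : Fintype.card ι = 12) :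
    ∃ (θ : G ≃* P) (w : ι → F), Data (rep θ) w := by
  obtain ⟨θ⟩ := exists_equiv hC e
  have hdim : finrank F (ι → F) = 12 := by rw [finrank_fintype_fun_eq_card, hι]
  have hne : ∀ g : G, g ≠ 1 → rep θ g ≠ 1 := by
    intro g hg h
    apply hg
    apply θ.injective
    rw [map_one]
    apply Subtype.ext
    apply Units.ext
    have h1 : Matrix.toLinAlgEquiv' ((θ g : P) : GL ι F).1 = (1 : End F (ι → F)) := h
    rw [← map_one (Matrix.toLinAlgEquiv' : Matrix ι ι F ≃ₐ[F] _)] at h1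
    exact Matrix.toLinAlgEquiv'.injective h1
  have n1 : x12 ≠ 1 := by
    intro h
    exact absurd (congrArg Subtype.val h) (by decide)
  have n1' : x23 ≠ 1 := by
    intro h
    exact absurd (congrArg Subtype.val h) (by decide)
  obtain ⟨w, w0, hw⟩ := exists_fixed n2 n3 hdim (rep θ) (hne _ n1) (hne _ n1')
  refine ⟨θ, w, ⟨n2, n3, hdim, hw, w0, fun W hW => ?_, hne _ n1⟩⟩
  refine hC.absIrred.1 W fun s hs => ?_
  obtain ⟨g, hg, rfl⟩ := hs
  rintro _ ⟨v, hv, rfl⟩
  have h := hW (θ.symm ⟨g, hg⟩) v hv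
  rw [rep_apply, MulEquiv.apply_symm_apply] at h
  rwa [Matrix.toLin'_apply]

end Cfsg.Agent.H915.L33
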