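import Cfsg.Agent.H915.L33Trace
import Cfsg.Agent.H830.QRec
import Mathlib.NumberTheory.LegendreSymbol.QuadraticReciprocity

/-!
# `L₃(3)` in `Ω₁₂(p)`: the final statement (helper915)
-/

set_option autoImplicit false
set_option linter.unusedSectionVars false

namespace Cfsg.Agent.H915.L33

open Cfsg Cfsg.Geo Matrix Module Cfsg.Agent.H915.LD
open Cfsg.Agent.LieClassical.OrthCore

universe u

/-! ### determinant -/

theorem det_JI {F : Type*} [Field F] (b : F) (h13 : (13 : F) ≠ 0) :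
    (Matrix.of fun i j : Fin 12 => b * (1 - 13 * if i = j then 1 else 0)).det = 13 * (13 ^ 5 * b ^ 6) ^ 2 := by
  have h1 : (Matrix.of fun i j : Fin 12 => b * (1 - 13 * if i = j then 1 else 0)) =
      (-13 * b) • ((1 : Matrix (Fin 12) (Fin 12) F) +
        Matrix.replicateCol Unit (fun _ => -(13 : F)⁻¹) * Matrix.replicateRow Unit (fun _ => (1 : F))) := by
    ext i j
    rw [Matrix.of_apply, Matrix.smul_apply, Matrix.add_apply, Matrix.one_apply, smul_eq_mul, Matrix.mul_apply]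
    simp only [Finset.univ_unique, Matrix.replicateCol_apply, Matrix.replicateRow_apply, Finset.sum_singleton, mul_one]
    field_simp
    ring
  rw [h1, Matrix.det_smul, Matrix.det_one_add_replicateCol_mul_replicateRow, Fintype.card_fin]
  simp only [dotProduct, one_mul, Finset.sum_const, Finset.card_univ, Fintype.card_fin, nsmul_eq_mul]
  push_cast
  field_simp
  ring

variable {ι : Type} [Fintype ι] [DecidableEq ι] {F : Type u} [Field F] [Fintype F] {P : Subgroup (GL ι F)}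

/-- **the type** -/
theorem type_iff {Q : (ι → F) → F} (hQ : IsNondegenerateQuadraticForm Q) (hι : Fintype.card ι = 12) {θ : G ≃* P}
    {w : ι → F} (T : Data (rep θ) w) (hfix : FixesQuadForm (matrixSet P) Q) :
    IsPlusTypeOn Q ⊤ ↔ IsSquare (13 : F) := by
  have h2 := T.n2
  have h13 := T.thirteen
  let B := Cfsg.Agent.H922.toBilin hQ.polar_bilinear
  have hBap : ∀ x y, B x y = QuadraticMap.polar Q x y := fun x y => rfl
  have hB : ∀ (g : G) (x y : ι → F), B (rep θ g x) (rep θ g y) = B x y := by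
    intro g x y
    have hf := hfix _ ⟨(θ g : GL ι F), (θ g).2, rfl⟩
    rw [hBap, hBap, rep_apply, rep_apply]
    unfold QuadraticMap.polar
    rw [← Matrix.mulVec_add, hf, hf, hf]
  obtain ⟨b, hb⟩ := T.gram hB
  have b0 : b ≠ 0 := by
    rintro rfl
    have hnd := Cfsg.Agent.H922.toBilin_nondegenerate hQ.polar_bilinear hQ.nondegenerate
    apply T.sys.ne_zero 0
    apply hnd.1
    intro y
    have h1 : B (T.u 0) = 0 := T.ext (fun j => by rw [hb, zero_mul, LinearMap.zero_apply])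
    change B (T.u 0) y = 0
    rw [h1, LinearMap.zero_apply]
  -- the basis of the first twelve vectors
  have hspan : ⊤ ≤ Submodule.span F (Set.range fun i : Fin 12 => T.u i.castSucc) := by
    rw [← T.sys.span, Submodule.span_le]
    rintro _ ⟨i, rfl⟩
    refine Fin.lastCases ?_ (fun j => ?_) i
    · have h1 := T.sys.sum
      rw [Fin.sum_univ_castSucc] at h1
      have h3 : T.u (Fin.last 12) = -∑ j : Fin 12, T.u j.castSucc := by
        rw [eq_neg_iff_add_eq_zero, add_comm]; exact h1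
      change T.u (Fin.last 12) ∈ _
      rw [h3]
      exact Submodule.neg_mem _ (Submodule.sum_mem _ fun j _ => Submodule.subset_span ⟨j, rfl⟩)
    · exact Submodule.subset_span ⟨j, rfl⟩
  let bs : Basis (Fin 12) F (ι → F) := basisOfTopLeSpanOfCardEqFinrank (fun i : Fin 12 => T.u i.castSucc) hspan (by
    rw [Fintype.card_fin, T.dim])
  have hbs : ∀ i, bs i = T.u i.castSucc := fun i => by
    change basisOfTopLeSpanOfCardEqFinrank _ hspan _ i = _
    rw [coe_basisOfTopLeSpanOfCardEqFinrank]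
  have hmat : LinearMap.BilinForm.toMatrix bs B = Matrix.of fun i j : Fin 12 => b * (1 - 13 * if i = j then 1 else 0) := by
    ext i j
    rw [LinearMap.BilinForm.toMatrix_apply, hbs, hbs, hb, Matrix.of_apply]
    simp only [Fin.castSucc_inj]
  have hdet : (LinearMap.BilinForm.toMatrix bs B).det = 13 * (13 ^ 5 * b ^ 6) ^ 2 := by rw [hmat, det_JI b h13]
  have hs0 : (13 ^ 5 * b ^ 6 : F) ≠ 0 := mul_ne_zero (pow_ne_zero _ h13) (pow_ne_zero _ b0)
  constructor
  · intro hp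
    obtain ⟨s, hs⟩ := Cfsg.Agent.H925.det_plus hQ hp (m := 6) (by omega) bs
    rw [hdet] at hs
    refine ⟨s / (13 ^ 5 * b ^ 6), ?_⟩
    rw [div_mul_div_comm, eq_div_iff (mul_ne_zero hs0 hs0)]
    linear_combination hs
  · rintro ⟨r, hr⟩
    refine Cfsg.Agent.H926.plus_of_det hQ h2 (m := 6) (by omega) bs (s := r * (13 ^ 5 * b ^ 6)) ?_
    change (LinearMap.BilinForm.toMatrix bs B).det = _
    rw [hdet, hr]
    ring

/-! ### arithmetic -/

theorem sq_three : ∀ a : ZMod 3, a ≠ 0 → IsSquare a → a = 1 := by decide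

theorem one_three : ∀ r : ZMod 3, r ≠ 0 → (((1 : ℤ) : ZMod 3) * r = 1 → r = 1) ∧ (((-1 : ℤ) : ZMod 3) * r = 1 → r = 2) := by
  decide

theorem two_ne_one_three : ((1 : ℕ) : ZMod 3) ≠ 2 ∧ ((2 : ℕ) : ZMod 3) ≠ 1 ∧ ((1 : ℕ) : ZMod 3) ≠ 0 ∧
    ((2 : ℕ) : ZMod 3) ≠ 0 := by
  decide

theorem qc_three [Fact (Nat.Prime 3)] {a : ZMod 3} (h : 1 = quadraticChar (ZMod 3) a) : a = 1 := by
  by_cases ha : a = 0
  · rw [ha, MulChar.map_zero] at h
    exact absurd h (by norm_num)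
  · exact sq_three a ha ((quadraticChar_one_iff_isSquare ha).1 h.symm)

theorem mod_twelve {p : ℕ} [hp : Fact p.Prime] [CharP F p] (hcard : Fintype.card F = p) (h2 : p ≠ 2) (h3 : p ≠ 3)
    (hs : IsSquare (3 : F)) : p % 12 = 1 ∨ p % 12 = 11 := by
  classical
  have hr : ringChar F = p := ringChar.eq F p ▸ rfl
  have hf3 : Fact (Nat.Prime 3) := ⟨Nat.prime_three⟩
  have n3 : (3 : F) ≠ 0 := by
    intro h
    have h4 : ((3 : ℕ) : F) = 0 := by exact_mod_cast h
    exact h3 ((Nat.prime_dvd_prime_iff_eq hp.out Nat.prime_three).1 ((CharP.cast_eq_zero_iff F p 3).1 h4))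
  have h4 := quadraticChar_odd_prime (F := F) (p := 3) (by rw [hr]; exact h2) (by norm_num) (by rw [hr]; exact h3)
  have h5 : quadraticChar F ((3 : ℕ) : F) = 1 := by
    rw [quadraticChar_one_iff_isSquare]
    · exact_mod_cast hs
    · exact_mod_cast n3
  rw [h5, hcard] at h4
  have h6 : p % 4 = 1 ∨ p % 4 = 3 := by
    have := hp.out.eq_two_or_odd
    omega
  have hmod3 : p % 3 = 1 ∨ p % 3 = 2 := by
    have h7 : ¬ 3 ∣ p := fun h => h3 ((Nat.prime_dvd_prime_iff_eq Nat.prime_three hp.out).1 h).symm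
    omega
  have hcast : (p : ZMod 3) = ((p % 3 : ℕ) : ZMod 3) := by rw [ZMod.natCast_mod]
  rcases h6 with h6 | h6
  · rw [ZMod.χ₄_nat_one_mod_four h6] at h4
    have h8 := qc_three h4
    rw [hcast] at h8
    rcases hmod3 with h7 | h7
    · omega
    · exfalso
      rw [h7] at h8
      exact two_ne_one_three.2.1 ((one_three _ two_ne_one_three.2.2.2).1 h8)
  · rw [ZMod.χ₄_nat_three_mod_four h6] at h4
    have h8 := qc_three h4
    rw [hcast] at h8
    rcases hmod3 with h7 | h7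
    · exfalso
      rw [h7] at h8
      exact two_ne_one_three.1 ((one_three _ two_ne_one_three.2.2.1).2 h8)
    · omega

theorem thirteen_key : ∀ r : Fin 13, r.1 ≠ 0 → (IsSquare ((r.1 : ℕ) : ZMod 13) ↔
    (r.1 = 1 ∨ r.1 = 12 ∨ r.1 = 3 ∨ r.1 = 10 ∨ r.1 = 4 ∨ r.1 = 9)) := by
  decide

theorem mod_thirteen {p : ℕ} [hp : Fact p.Prime] [CharP F p] (hcard : Fintype.card F = p) (h2 : p ≠ 2) (h13 : p ≠ 13) :
    (IsSquare (13 : F) → (p % 13 = 1 ∨ p % 13 = 12 ∨ p % 13 = 3 ∨ p % 13 = 10 ∨ p % 13 = 4 ∨ p % 13 = 9)) ∧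
    (¬ IsSquare (13 : F) → (p % 13 = 2 ∨ p % 13 = 11 ∨ p % 13 = 5 ∨ p % 13 = 8 ∨ p % 13 = 6 ∨ p % 13 = 7)) := by
  have hr : ringChar F = p := ringChar.eq F p ▸ rfl
  have hpr : Nat.Prime 13 := by norm_num
  have hf : Fact (Nat.Prime 13) := ⟨hpr⟩
  have n13 : ((13 : ℕ) : F) ≠ 0 := by
    intro h
    exact h13 ((Nat.prime_dvd_prime_iff_eq hp.out hpr).1 ((CharP.cast_eq_zero_iff F p 13).1 h))
  have h4 := Cfsg.Agent.H830.Disc.isSquare_star_iff (F := F) (r := 13) (m := 6) (by rw [hr]; exact h2) rfl n13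
  have h5 : ((-1) ^ 6 * ((13 : ℕ) : F)) = 13 := by push_cast; ring
  rw [h5, hcard] at h4
  have h0 : p % 13 ≠ 0 := by
    intro h
    exact h13 ((Nat.prime_dvd_prime_iff_eq hpr hp.out).1 (Nat.dvd_of_mod_eq_zero h)).symm
  have hlt : p % 13 < 13 := Nat.mod_lt _ (by norm_num)
  have hcast : ((p : ℕ) : ZMod 13) = ((p % 13 : ℕ) : ZMod 13) := by rw [ZMod.natCast_mod]
  rw [hcast] at h4
  have h6 := thirteen_key ⟨p % 13, hlt⟩ h0
  simp only at h6
  rw [h4, h6]
  constructor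
  · intro h; exact h
  · intro h; omega

/-! ### the rows -/

section rows

variable {Q : (ι → F) → F} {H : Subgroup (GL ι F)}

/-- common part -/
theorem main (p : ℕ) [hp : Fact p.Prime] [CharP F p] (h2 : (2 : F) ≠ 0) (h3 : (3 : F) ≠ 0)
    (hQ : IsNondegenerateQuadraticForm Q) (hι : Fintype.card ι = 12) (hH : IsMaximalIn (omegaGL Q) H)
    (hPc : IsResidualCore H P) (e : Soc P ≃* T33) :
    Fintype.card F = p ∧ p ≠ 2 ∧ p ≠ 3 ∧ p ≠ 13 ∧ (p % 12 = 1 ∨ p % 12 = 11) ∧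
      (∃ r y : F, r * r = 3 ∧ y * y = 5 - 2 * r) ∧ (IsPlusTypeOn Q ⊤ ↔ IsSquare (13 : F)) := by
  have hC := core_of_residual hPc
  obtain ⟨hsd, hfr, h13⟩ := l33_twelve p hC h2 h3 hι e
  have hcard := hC.card_eq p hfr
  have hp2 : p ≠ 2 := by
    rintro rfl
    apply h2
    exact_mod_cast CharP.cast_eq_zero F 2
  have hp3 : p ≠ 3 := by
    rintro rfl
    apply h3
    exact_mod_cast CharP.cast_eq_zero F 3
  obtain ⟨θ, w, T⟩ := exists_data hC e h2 h3 hι
  have htype := type_iff hQ hι T (by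
    rintro _ ⟨g, hg, rfl⟩ v
    obtain ⟨x, -, hx⟩ := hH.1.le (hPc.le hg)
    have := x.2 v v
    rw [← hx]
    exact this)
  obtain ⟨Q', rfl, hQ'⟩ := Cfsg.Agent.H883.Bridge.exists_quadraticForm hQ
  obtain ⟨l, hl, y, hy⟩ := exists_l h2 hQ' hι hH hPc θ T e
  have hr : (3 * l) * (3 * l) = 3 := by linear_combination 3 * hl
  exact ⟨hcard, hp2, hp3, h13, mod_twelve hcard hp2 hp3 ⟨3 * l, hr.symm⟩, ⟨3 * l, y, hr, by rw [← hy]; ring⟩, htype⟩

/-- **the row of `S5872`** -/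
theorem plus_row (p : ℕ) [hp : Fact p.Prime] [CharP F p] (h2 : (2 : F) ≠ 0) (h3 : (3 : F) ≠ 0)
    (hQ : IsNondegenerateQuadraticForm Q) (hplus : IsPlusTypeOn Q ⊤) (hι : Fintype.card ι = 12)
    (hH : IsMaximalIn (omegaGL Q) H) (hPc : IsResidualCore H P) (e : Soc P ≃* T33) :
    Fintype.card F = p ∧ p ≠ 3 ∧ (p % 13 = 1 ∨ p % 13 = 12 ∨ p % 13 = 3 ∨ p % 13 = 10 ∨ p % 13 = 4 ∨ p % 13 = 9) ∧
      (p % 12 = 1 ∨ p % 12 = 11) ∧ (∃ s : Finset F, s.card = 4 ∧ ∀ x ∈ s, x ^ 4 - 10 * x ^ 2 + 13 = 0) := by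
  classical
  obtain ⟨hcard, hp2, hp3, h13, h12, ⟨r, y, hr, hy⟩, htype⟩ := main p h2 h3 hQ hι hH hPc e
  obtain ⟨z, hz⟩ := htype.1 hplus
  have n13 : (13 : F) ≠ 0 := by
    intro h
    have h4 : ((13 : ℕ) : F) = 0 := by exact_mod_cast h
    exact h13 ((Nat.prime_dvd_prime_iff_eq hp.out (by norm_num)).1 ((CharP.cast_eq_zero_iff F p 13).1 h4))
  refine ⟨hcard, hp3, (mod_thirteen hcard hp2 h13).1 ⟨z, hz⟩, h12, ?_⟩
  have hprod : (5 - 2 * r) * (5 + 2 * r) = 13 := by linear_combination (-4) * hr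
  have y0 : y ≠ 0 := by
    rintro rfl
    rw [← hy, mul_zero, zero_mul] at hprod
    exact n13 hprod.symm
  obtain ⟨x, hx⟩ : ∃ x, x = z / y := ⟨_, rfl⟩
  have hxy : x * y = z := by rw [hx, div_mul_cancel₀ _ y0]
  have hx2 : x * x = 5 + 2 * r := by
    have h5 : (y * y) * (x * x - (5 + 2 * r)) = 0 := by
      have : (y * y) * (x * x) = 13 := by rw [hz, ← hxy]; ring
      rw [mul_sub, this, hy, hprod, sub_self]
    exact sub_eq_zero.1 ((mul_eq_zero.1 h5).resolve_left (mul_ne_zero y0 y0))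
  have x0 : x ≠ 0 := by
    rintro rfl
    rw [← hx2, mul_zero, mul_zero] at hprod
    exact n13 hprod.symm
  have r0 : r ≠ 0 := by
    rintro rfl
    apply h3
    rw [← hr, mul_zero]
  have hne : x * x ≠ y * y := by
    rw [hx2, hy]
    intro h
    have h6 : (2 * 2) * r = 0 := by linear_combination h
    exact (mul_ne_zero (mul_ne_zero h2 h2) r0) h6
  have d1 : y ≠ -y := by
    intro h
    have h6 : 2 * y = 0 := by linear_combination h
    exact (mul_ne_zero h2 y0) h6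
  have d2 : x ≠ -x := by
    intro h
    have h6 : 2 * x = 0 := by linear_combination h
    exact (mul_ne_zero h2 x0) h6
  have d3 : y ≠ x := by rintro rfl; exact hne rfl
  have d4 : y ≠ -x := by rintro rfl; exact hne (by ring)
  have d5 : -y ≠ x := by rintro rfl; exact hne (by ring)
  have d6 : -y ≠ -x := fun h => d3 (neg_injective h)
  refine ⟨{y, -y, x, -x}, ?_, ?_⟩
  · rw [Finset.card_insert_of_notMem, Finset.card_insert_of_notMem, Finset.card_insert_of_notMem, Finset.card_singleton]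
    · simpa using d2
    · simp only [Finset.mem_insert, Finset.mem_singleton, not_or]
      exact ⟨d5, d6⟩
    · simp only [Finset.mem_insert, Finset.mem_singleton, not_or]
      exact ⟨d1, d3, d4⟩
  · have k1 : y ^ 4 - 10 * y ^ 2 + 13 = 0 := by
      linear_combination (y * y + (5 - 2 * r) - 10) * hy + 4 * hr
    have k2 : x ^ 4 - 10 * x ^ 2 + 13 = 0 := by
      linear_combination (x * x + (5 + 2 * r) - 10) * hx2 + 4 * hr
    intro t ht
    simp only [Finset.mem_insert, Finset.mem_singleton] at ht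
    rcases ht with rfl | rfl | rfl | rfl
    · exact k1
    · rw [← k1]; ring
    · exact k2
    · rw [← k2]; ring

/-- **the row of `S5875`** -/
theorem minus_row (p : ℕ) [hp : Fact p.Prime] [CharP F p] (h2 : (2 : F) ≠ 0) (h3 : (3 : F) ≠ 0)
    (hQ : IsNondegenerateQuadraticForm Q) (hminus : ¬ IsPlusTypeOn Q ⊤) (hι : Fintype.card ι = 12)
    (hH : IsMaximalIn (omegaGL Q) H) (hPc : IsResidualCore H P) (e : Soc P ≃* T33) :
    Fintype.card F = p ∧ (p % 13 = 2 ∨ p % 13 = 11 ∨ p % 13 = 5 ∨ p % 13 = 8 ∨ p % 13 = 6 ∨ p % 13 = 7) ∧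
      (p % 12 = 1 ∨ p % 12 = 11 ∨ p % 12 = 2) := by
  obtain ⟨hcard, hp2, hp3, h13, h12, -, htype⟩ := main p h2 h3 hQ hι hH hPc e
  refine ⟨hcard, (mod_thirteen hcard hp2 h13).2 (fun h => hminus (htype.2 h)), ?_⟩
  omega

end rows

end Cfsg.Agent.H915.L33
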