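import Cfsg.Agent.H905.SLFrames
import Cfsg.Agent.H912.Core4
import Cfsg.Agent.H917.FrameTwo
import Cfsg.Agent.H917.TensorTwo
import Cfsg.Agent.H921.SympDim

/-!
# The maximal subgroups of `SL_n(q)`, `n ≥ 3`: every type with equality and numerical data

`sl_cases`: a maximal subgroup `H` of `SL_n(F)` is `M ⊓ SL_n(F)` for a member `M` of the listed
geometric types, or is in the residual class.
-/

set_option autoImplicit false

namespace Cfsg.Agent.H915

open Matrix Cfsg Cfsg.Geo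

variable {F : Type*} [Field F] [Fintype F] {n : ℕ}

theorem finite_gl (R : Subgroup (GL (Fin n) F)) : Finite R := by
  classical
  infer_instance

omit [Fintype F] in
/-- `t * m = n` for an `m`-decomposition of `F^n` into `t` members. -/
theorem mul_eq_of_decomposition {t m : ℕ} {D : Fin t → Submodule F (Fin n → F)}
    (hD : IsMDecomposition m D) : t * m = n := by
  classical
  have hint : DirectSum.IsInternal D :=
    (DirectSum.isInternal_submodule_iff_iSupIndep_and_iSup_eq_top D).2 ⟨hD.indep, hD.iSup_eq_top⟩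
  have h1 := hint.collectedBasis (fun i => Module.finBasis F (D i))
  have h2 := Module.finrank_eq_card_basis h1
  rw [Module.finrank_fintype_fun_eq_card, Fintype.card_fin, Fintype.card_sigma] at h2
  simp only [Fintype.card_fin, hD.finrank_eq, Finset.sum_const, Finset.card_univ, smul_eq_mul] at h2
  exact h2.symm

/-- Class 6, linear case: the numerical data. -/
theorem classSix_data (hn : 3 ≤ n) {r : ℕ} {R : Subgroup (GL (Fin n) F)}
    (hR : IsLinearSymplecticTypeData r R) :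
    (∃ p e k : ℕ, r.Prime ∧ Odd r ∧ Odd e ∧ 1 ≤ k ∧ n = r ^ k ∧ r ≠ p ∧ IsMinimalFieldFor r p e F ∧
      Nat.card (Subgroup.center R) = r ∧ Nat.card R = r ^ (1 + 2 * k)) ∨
    (∃ k : ℕ, r = 2 ∧ n = 2 ^ k ∧ (Fintype.card F).Prime ∧ Fintype.card F % 4 = 1 ∧
      Nat.card (Subgroup.center R) = 4 ∧ Nat.card R = 2 ^ (2 + 2 * k)) := by
  have := finite_gl R
  have : Nonempty (Fin n) := ⟨⟨0, by omega⟩⟩
  obtain ⟨p, e, hrp, hmin, h⟩ := hR.field
  rcases h with ⟨hro, heo, hZ, m, hm, hc⟩ | ⟨hr2, he, hZ, h4, m, hc⟩ | ⟨hr2, he, hι, hc, hZ, -⟩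
  · left
    refine ⟨p, e, m, hR.symplecticType.prime, hro, heo, hm, ?_, hrp, hZ ▸ hmin, hZ, hc⟩
    have := H921.card_eq_pow_of_center_prime hR.symplecticType hR.absIrred hZ hc
    rwa [Fintype.card_fin] at this
  · right
    subst hr2
    have h5 := H921.card_eq_pow_of_center_four hR.symplecticType hR.absIrred hZ hc
    rw [Fintype.card_fin] at h5
    obtain ⟨hp, -, hcard, hdvd, -⟩ := hmin
    subst he
    rw [pow_one] at hcard hdvd
    refine ⟨m, rfl, h5, hcard ▸ hp, ?_, hZ, hc⟩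
    rw [hZ] at hdvd
    rw [hcard]
    have := hp.two_le
    omega
  · exfalso
    rw [Fintype.card_fin] at hι
    omega

/-- **The maximal subgroups of `SL_n(F)`, `n ≥ 3`**: each type with equality `H = M ⊓ SL_n(F)`.
The hypothesis `hgen` is the conclusion of `S5630` for `H`; see `H915.SLCases` for the version without. -/
theorem sl_cases_of (hn : 3 ≤ n) {H : Subgroup (GL (Fin n) F)}
    (hH : IsMaximalIn (specialLinear (Fin n) F) H)
    (hgen : (∃ M : Subgroup (GL (Fin n) F), InLinearClass n F M ∧ H ≤ M) ∨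
      InLinearResidualClass H) :
    (∃ W : Submodule F (Fin n → F), W ≠ ⊥ ∧ W ≠ ⊤ ∧
      H = subspaceStabilizer W ⊓ specialLinear (Fin n) F) ∨
    (∃ (t m : ℕ) (D : Fin t → Submodule F (Fin n → F)), t * m = n ∧ IsMDecomposition m D ∧
      (m = 1 → 5 ≤ Fintype.card F) ∧ (m = 2 → Fintype.card F ≠ 2) ∧
      H = decompositionStabilizer D ⊓ specialLinear (Fin n) F) ∨
    (∃ (r : ℕ) (K : Subalgebra F (Matrix (Fin n) (Fin n) F)), r.Prime ∧ r ∣ n ∧
      IsFieldSubalgebra r K ∧ H = subalgebraNormalizer K ⊓ specialLinear (Fin n) F) ∨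
    (∃ (n₁ n₂ : ℕ) (e : Fin n ≃ Fin n₁ × Fin n₂) (P : GL (Fin n) F), 2 ≤ n₁ ∧ n₁ < n₂ ∧
      n₁ * n₂ = n ∧ (n₁ = 2 → Fintype.card F ≠ 2) ∧
      H = tensorProductSubgroup n₁ n₂ e P ⊓ specialLinear (Fin n) F) ∨
    (∃ (F₀ : Subfield F) (r : ℕ) (P : GL (Fin n) F), r.Prime ∧ Fintype.card F = Nat.card F₀ ^ r ∧
      H = subfieldSubgroup F₀ P ⊓ specialLinear (Fin n) F) ∨
    (∃ (r k p e : ℕ) (R : Subgroup (GL (Fin n) F)), IsLinearSymplecticTypeData r R ∧ r.Prime ∧
      Odd r ∧ Odd e ∧ 1 ≤ k ∧ n = r ^ k ∧ r ≠ p ∧ IsMinimalFieldFor r p e F ∧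
      Nat.card (Subgroup.center R) = r ∧ Nat.card R = r ^ (1 + 2 * k) ∧
      H = subgroupNormalizer R ⊓ specialLinear (Fin n) F) ∨
    (∃ (k : ℕ) (R : Subgroup (GL (Fin n) F)), IsLinearSymplecticTypeData 2 R ∧ n = 2 ^ k ∧
      (Fintype.card F).Prime ∧ Fintype.card F % 4 = 1 ∧
      Nat.card (Subgroup.center R) = 4 ∧ Nat.card R = 2 ^ (2 + 2 * k) ∧
      H = subgroupNormalizer R ⊓ specialLinear (Fin n) F) ∨
    (∃ (m t : ℕ) (e : Fin n ≃ (Fin t → Fin m)) (P : GL (Fin n) F), 3 ≤ m ∧ 2 ≤ t ∧ m ^ t = n ∧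
      H = tensorWreathSubgroup m t e P ⊓ specialLinear (Fin n) F) ∨
    (∃ f : (Fin n → F) → (Fin n → F) → F, IsSymplecticForm f ∧ Even n ∧ 4 ≤ n ∧
      H = similarityGroup f ⊓ specialLinear (Fin n) F) ∨
    (∃ (σ : F ≃+* F) (f : (Fin n → F) → (Fin n → F) → F), IsUnitaryForm σ f ∧
      H = similarityGroup f ⊓ specialLinear (Fin n) F) ∨
    (Odd (Fintype.card F) ∧ ∃ Q : (Fin n → F) → F, IsNondegenerateQuadraticForm Q ∧
      H = quadSimilarityGroup Q ⊓ specialLinear (Fin n) F) ∨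
    InLinearResidualClass H := by
  have hι : 3 ≤ Fintype.card (Fin n) := by rwa [Fintype.card_fin]
  have : Nonempty (Fin n) := ⟨⟨0, by omega⟩⟩
  rcases hgen with ⟨M, hM, hHM⟩ | hres
  swap
  · iterate 11 right
    exact hres
  have heq := H905.eq_inf_of_inLinearClass hn hH hM hHM
  -- the three reducible types
  have hred : ∀ W : Submodule F (Fin n → F), W ≠ ⊥ → W ≠ ⊤ → H ≤ subspaceStabilizer W →
      (∃ W : Submodule F (Fin n → F), W ≠ ⊥ ∧ W ≠ ⊤ ∧
      H = subspaceStabilizer W ⊓ specialLinear (Fin n) F) := fun W h0 h1 hle =>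
    ⟨W, h0, h1, H905.eq_inf_of_isMaximalIn hH hle (H905.not_sl_le_subspaceStabilizer h0 h1)⟩
  rcases hM with ⟨W, h0, h1, rfl⟩ | ⟨W, U, h0, hWU, -, rfl⟩ | ⟨W, U, h0, hinf, hsup, hlt, rfl⟩ |
    ⟨t, m, D, hD, rfl⟩ | ⟨r, K, hr, hK, rfl⟩ | ⟨n₁, n₂, e, P, h2, h12, rfl⟩ |
    ⟨F₀, r, P, hr, hc, rfl⟩ | ⟨r, R, hR, rfl⟩ | ⟨m, t, e, P, hm, ht, rfl⟩ |
    ⟨f, hf, hev, h4, rfl⟩ | ⟨σ, f, hf, h3, rfl⟩ | ⟨Q, hQ, hodd, h3, rfl⟩
  · exact Or.inl (hred W h0 h1 hHM)
  · exact Or.inl (hred W h0 (fun h => by rw [h] at hWU; exact not_top_lt hWU)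
      (hHM.trans inf_le_left))
  · refine Or.inl (hred W h0 (fun h => ?_) (hHM.trans inf_le_left))
    rw [h] at hlt
    have := Submodule.finrank_le U
    rw [finrank_top] at hlt
    omega
  · -- decompositions
    rcases Nat.lt_or_ge m 2 with hm | hm
    · have hm1 : m = 1 := by have := hD.pos; omega
      subst hm1
      rcases H905.frame_cases hι hH hD hHM with h | ⟨h5, -, h⟩ | ⟨ho, Q, hQ, h⟩ | ⟨σ, f, hf, h⟩
      · exact Or.inl h
      · exact Or.inr (Or.inl ⟨t, 1, D, mul_eq_of_decomposition hD, hD, fun _ => h5,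
          fun h => absurd h (by decide), h⟩)
      · iterate 10 right
        exact Or.inl ⟨ho, Q, hQ, h⟩
      · iterate 9 right
        exact Or.inl ⟨σ, f, hf, h⟩
    · by_cases h22 : m = 2 ∧ Fintype.card F = 2
      · obtain ⟨hm2, hF2⟩ := h22
        subst hm2
        obtain ⟨f, hf, hle⟩ := H917.frameTwo_le_symplectic hF2 hD
        have htn := mul_eq_of_decomposition hD
        have := hD.two_le
        iterate 8 right
        exact Or.inl ⟨f, hf, ⟨t, by omega⟩, by omega, H905.eq_inf_of_isMaximalIn hH (hHM.trans hle)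
          (H905.not_sl_le_similarityGroup_symplectic hι hf)⟩
      · exact Or.inr (Or.inl ⟨t, m, D, mul_eq_of_decomposition hD, hD, fun h => by omega,
          fun h hF => h22 ⟨h, hF⟩, heq⟩)
  · -- field subalgebras
    refine Or.inr (Or.inr (Or.inl ⟨r, K, hr, ?_, hK, heq⟩))
    have := H912.finrank_dvd_of_fieldSub hK
    rwa [Fintype.card_fin] at this
  · -- tensor products
    have hcard : n₁ * n₂ = n := by
      have := Fintype.card_congr e
      rw [Fintype.card_fin, Fintype.card_prod, Fintype.card_fin, Fintype.card_fin] at this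
      exact this.symm
    by_cases h22 : n₁ = 2 ∧ Fintype.card F = 2
    · obtain ⟨hn1, hF2⟩ := h22
      subst hn1
      obtain ⟨K, hK, hle⟩ := H917.tensor_two_le_normalizer hF2 (by omega : 0 < n₂) e P
      refine Or.inr (Or.inr (Or.inl ⟨2, K, Nat.prime_two, ⟨n₂, hcard.symm⟩, hK,
        H905.eq_inf_of_inLinearClass hn hH ?_ (hHM.trans hle)⟩))
      iterate 4 right
      exact Or.inl ⟨2, K, Nat.prime_two, hK, rfl⟩
    · exact Or.inr (Or.inr (Or.inr (Or.inl ⟨n₁, n₂, e, P, h2, h12, hcard,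
        fun h hF => h22 ⟨h, hF⟩, heq⟩)))
  · iterate 4 right
    exact Or.inl ⟨F₀, r, P, hr, hc, heq⟩
  · -- class 6
    rcases classSix_data hn hR with ⟨p, e, k, hr, hro, heo, hk, hnk, hrp, hmin, hZ, hc⟩ |
      ⟨k, hr2, hnk, hp, h4, hZ, hc⟩
    · iterate 5 right
      exact Or.inl ⟨r, k, p, e, R, hR, hr, hro, heo, hk, hnk, hrp, hmin, hZ, hc, heq⟩
    · subst hr2
      iterate 6 right
      exact Or.inl ⟨k, R, hR, hnk, hp, h4, hZ, hc, heq⟩
  · -- class 7
    have hcard : m ^ t = n := by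
      have := Fintype.card_congr e
      rw [Fintype.card_fin, Fintype.card_fun, Fintype.card_fin, Fintype.card_fin] at this
      exact this.symm
    iterate 7 right
    exact Or.inl ⟨m, t, e, P, hm, ht, hcard, heq⟩
  · iterate 8 right
    exact Or.inl ⟨f, hf, hev, h4, heq⟩
  · iterate 9 right
    exact Or.inl ⟨σ, f, hf, heq⟩
  · iterate 10 right
    exact Or.inl ⟨hodd, Q, hQ, heq⟩

end Cfsg.Agent.H915
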