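import Cfsg.Agent.H915.L33Rep
import Cfsg.Agent.H882.Del.Basic

/-!
# Modules of dimension 12 of `SL₃(3)`: the 13 vectors (helper915)
-/

set_option autoImplicit false
set_option linter.unusedSectionVars false

namespace Cfsg.Agent.H915.L33

open Module Matrix Cfsg.Agent.H915.Idem

abbrev X := Fin 3 → ZMod 3

def e1 : X := ![1, 0, 0]
def e2 : X := ![0, 1, 0]

/-- a matrix with a given first column -/
def col (a b c : ZMod 3) : Matrix (Fin 3) (Fin 3) (ZMod 3) :=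
  if a ≠ 0 then !![a, 0, 0; b, a, 0; c, 0, 1] else if b ≠ 0 then !![0, -b, 0; b, 0, 0; c, 0, 1] else
    !![0, 0, -c; 0, 1, 0; c, 0, 0]

theorem col_det : ∀ a b c : ZMod 3, (a ≠ 0 ∨ b ≠ 0 ∨ c ≠ 0) → (col a b c).det = 1 := by decide

theorem col_first : ∀ a b c : ZMod 3, col a b c *ᵥ e1 = ![a, b, c] := by decide

theorem exists_mk (x : X) (hx : x ≠ 0) : ∃ g : G, g.1 *ᵥ e1 = x := by
  have h : x 0 ≠ 0 ∨ x 1 ≠ 0 ∨ x 2 ≠ 0 := by
    by_contra h
    push Not at h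
    apply hx
    funext i
    fin_cases i
    · exact h.1
    · exact h.2.1
    · exact h.2.2
  refine ⟨⟨col (x 0) (x 1) (x 2), col_det _ _ _ h⟩, ?_⟩
  change col (x 0) (x 1) (x 2) *ᵥ e1 = x
  rw [col_first]
  funext i
  fin_cases i <;> rfl

/-- representatives of the 13 points -/
def pt : Fin 13 → X :=
  ![![1, 0, 0], ![0, 1, 0], ![0, 0, 1], ![1, 1, 0], ![1, 2, 0], ![1, 0, 1], ![1, 0, 2], ![0, 1, 1], ![0, 1, 2],
    ![1, 1, 1], ![1, 1, 2], ![1, 2, 1], ![1, 2, 2]]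

theorem pt_ne : ∀ i, pt i ≠ 0 := by decide

theorem pt_surj' : ∀ a b c : ZMod 3, (![a, b, c] : X) ≠ 0 → ∃ i, ![a, b, c] = pt i ∨ ![a, b, c] = -pt i := by decide

theorem eta (x : X) : x = ![x 0, x 1, x 2] := by
  funext i
  fin_cases i <;> rfl

theorem pt_surj (x : X) (hx : x ≠ 0) : ∃ i, x = pt i ∨ x = -pt i := by
  have h := pt_surj' (x 0) (x 1) (x 2) (by rwa [← eta])
  rwa [← eta] at h

theorem pt_inj : ∀ i j, (pt i = pt j ∨ pt i = -pt j) → i = j := by decide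

/-- `k` fixes `e₁` and moves `e₂` to a given vector -/
def kol (a b c : ZMod 3) : Matrix (Fin 3) (Fin 3) (ZMod 3) :=
  if b ≠ 0 then !![1, a, 0; 0, b, 0; 0, c, b] else !![1, a, 0; 0, 0, -c; 0, c, 0]

theorem kol_spec : ∀ a b c : ZMod 3, (b ≠ 0 ∨ c ≠ 0) → (kol a b c).det = 1 ∧ kol a b c *ᵥ e1 = e1 ∧
    kol a b c *ᵥ e2 = ![a, b, c] := by decide

theorem two_trans (x : X) (h0 : x ≠ 0) (h1 : x ≠ e1) (h2 : x ≠ -e1) : ∃ k : G, k.1 *ᵥ e1 = e1 ∧ k.1 *ᵥ e2 = x := by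
  have key : ∀ a b c : ZMod 3, (![a, b, c] : X) ≠ 0 → (![a, b, c] : X) ≠ e1 → (![a, b, c] : X) ≠ -e1 →
    (b ≠ 0 ∨ c ≠ 0) := by decide
  have h := key (x 0) (x 1) (x 2) (by rwa [← eta]) (by rwa [← eta]) (by rwa [← eta])
  obtain ⟨d1, d2, d3⟩ := kol_spec (x 0) (x 1) (x 2) h
  rw [← eta] at d3
  exact ⟨⟨_, d1⟩, d2, d3⟩

/-- `kᵀ` moves `e₂` to a given vector `(0, b, c)`, and `k` fixes `e₁` -/
def tol (b c : ZMod 3) : Matrix (Fin 3) (Fin 3) (ZMod 3) :=
  if b ≠ 0 then !![1, 0, 0; 0, b, c; 0, 0, b] else !![1, 0, 0; 0, 0, c; 0, -c, 0]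

theorem tol_spec : ∀ b c : ZMod 3, (b ≠ 0 ∨ c ≠ 0) → (tol b c).det = 1 ∧ tol b c *ᵥ e1 = e1 ∧
    (tol b c)ᵀ *ᵥ e2 = ![0, b, c] := by decide

/-- `kᵀ` moves `e₁` to a given vector `(a, b, c)`, `a ≠ 0`, and `k` fixes `⟨e₁⟩` -/
def sol (a b c : ZMod 3) : Matrix (Fin 3) (Fin 3) (ZMod 3) := !![a, b, c; 0, a, 0; 0, 0, 1]

theorem sol_spec : ∀ a b c : ZMod 3, a ≠ 0 → (sol a b c).det = 1 ∧ (sol a b c *ᵥ e1 = e1 ∨ sol a b c *ᵥ e1 = -e1) ∧
    (sol a b c)ᵀ *ᵥ e1 = ![a, b, c] := by decide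

theorem perp_zero (x : X) (h0 : x ≠ 0) (h : x 0 = 0) : ∃ k : G, k.1 *ᵥ e1 = e1 ∧ k.1ᵀ *ᵥ e2 = x := by
  have key : ∀ b c : ZMod 3, (![0, b, c] : X) ≠ 0 → (b ≠ 0 ∨ c ≠ 0) := by decide
  have hx := eta x
  rw [h] at hx
  have h1 := key (x 1) (x 2) (by rwa [← hx])
  obtain ⟨d1, d2, d3⟩ := tol_spec (x 1) (x 2) h1
  rw [← hx] at d3
  exact ⟨⟨_, d1⟩, d2, d3⟩

theorem perp_ne (x : X) (h : x 0 ≠ 0) : ∃ k : G, (k.1 *ᵥ e1 = e1 ∨ k.1 *ᵥ e1 = -e1) ∧ k.1ᵀ *ᵥ e1 = x := by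
  obtain ⟨d1, d2, d3⟩ := sol_spec (x 0) (x 1) (x 2) h
  rw [← eta] at d3
  exact ⟨⟨_, d1⟩, d2, d3⟩

/-- counting the points of a line -/
theorem card_perp : ∀ i, (Finset.univ.filter fun j => pt i ⬝ᵥ pt j = 0).card = 4 := by decide

theorem first_col (g : G) (h : g.1 *ᵥ e1 = e1 ∨ g.1 *ᵥ e1 = -e1) : g.1 1 0 = 0 ∧ g.1 2 0 = 0 := by
  have h1 : ∀ i, (g.1 *ᵥ e1) i = g.1 i 0 := by
    intro i
    simp [Matrix.mulVec, dotProduct, Fin.sum_univ_three, e1]
  rcases h with h | h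
  · rw [← h1, ← h1, h]
    exact ⟨rfl, rfl⟩
  · rw [← h1, ← h1, h]
    exact ⟨by decide, by decide⟩

section rep

variable {F : Type*} [Field F] {V : Type*} [AddCommGroup V] [Module F V] [FiniteDimensional F V]
variable (ρ : G →* End F V) (w : V) (hw : ∀ g : G, g.1 1 0 = 0 → g.1 2 0 = 0 → ρ g w = w)

theorem mul_ap (g h : G) (x : V) : ρ (g * h) x = ρ g (ρ h x) := by rw [map_mul]; rfl

theorem mulVec_mul' (g h : G) (x : X) : (g * h).1 *ᵥ x = g.1 *ᵥ (h.1 *ᵥ x) := by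
  rw [Matrix.mulVec_mulVec]
  rfl

theorem inv_ap (g : G) (x : V) : ρ g⁻¹ (ρ g x) = x := by
  rw [← mul_ap, inv_mul_cancel, map_one]; rfl

theorem inv_mulVec' (g : G) (x : X) : (g⁻¹).1 *ᵥ (g.1 *ᵥ x) = x := by
  rw [← mulVec_mul', inv_mul_cancel]
  exact Matrix.one_mulVec x

include hw in
theorem eq_of_col {m m' : G} (h : m.1 *ᵥ e1 = m'.1 *ᵥ e1 ∨ m.1 *ᵥ e1 = -(m'.1 *ᵥ e1)) : ρ m w = ρ m' w := by
  have h1 : (m'⁻¹ * m).1 *ᵥ e1 = e1 ∨ (m'⁻¹ * m).1 *ᵥ e1 = -e1 := by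
    rw [mulVec_mul']
    rcases h with h | h
    · left; rw [h, inv_mulVec']
    · right; rw [h, Matrix.mulVec_neg, inv_mulVec']
  obtain ⟨h2, h3⟩ := first_col _ h1
  have h4 := hw _ h2 h3
  have h5 : m = m' * (m'⁻¹ * m) := by group
  calc ρ m w = ρ (m' * (m'⁻¹ * m)) w := by rw [← h5]
    _ = ρ m' w := by rw [mul_ap, h4]

open Classical in
/-- the vectors -/
noncomputable def vv (x : X) : V := if h : x = 0 then 0 else ρ (Classical.choose (exists_mk x h)) w

theorem vv_zero : vv ρ w 0 = 0 := dif_pos rfl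

include hw in
theorem vv_eq {x : X} {m : G} (h : m.1 *ᵥ e1 = x ∨ m.1 *ᵥ e1 = -x) : vv ρ w x = ρ m w := by
  have hx : x ≠ 0 := by
    rintro rfl
    have h1 : m.1 *ᵥ e1 = 0 := by
      rcases h with h | h
      · exact h
      · rw [h, neg_zero]
    have h2 := inv_mulVec' m e1
    rw [h1, Matrix.mulVec_zero] at h2
    exact absurd h2 (by decide)
  unfold vv
  rw [dif_neg hx]
  have h3 := Classical.choose_spec (exists_mk x hx)
  apply eq_of_col ρ w hw
  rw [h3]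
  rcases h with h | h
  · left; exact h.symm
  · right; rw [h, neg_neg]

theorem mulVec_ne (g : G) {x : X} (h : x ≠ 0) : g.1 *ᵥ x ≠ 0 := by
  intro h1
  have h2 := inv_mulVec' g x
  rw [h1, Matrix.mulVec_zero] at h2
  exact h h2.symm

include hw in
theorem vv_smul (g : G) (x : X) : ρ g (vv ρ w x) = vv ρ w (g.1 *ᵥ x) := by
  by_cases hx : x = 0
  · rw [hx, Matrix.mulVec_zero, vv_zero, map_zero]
  obtain ⟨m, hm⟩ := exists_mk x hx
  rw [vv_eq ρ w hw (Or.inl hm), vv_eq ρ w hw (x := g.1 *ᵥ x) (m := g * m) (Or.inl (by rw [mulVec_mul', hm])), mul_ap]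

include hw in
theorem vv_neg (x : X) : vv ρ w (-x) = vv ρ w x := by
  by_cases hx : x = 0
  · rw [hx, neg_zero]
  obtain ⟨m, hm⟩ := exists_mk x hx
  rw [vv_eq ρ w hw (Or.inl hm), vv_eq ρ w hw (x := -x) (m := m) (Or.inr (by rw [hm, neg_neg]))]

include hw in
theorem vv_e1 : vv ρ w e1 = w := by
  rw [vv_eq ρ w hw (m := 1) (Or.inl (Matrix.one_mulVec _)), map_one]; rfl

/-- the 27 vectors -/
def all27 : Option (Fin 13 × Bool) → X := fun o => match o with
  | none => 0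
  | some (i, b) => if b then pt i else -pt i

theorem all27_inj : Function.Injective all27 := by
  intro o o' h
  rcases o with _ | ⟨i, b⟩ <;> rcases o' with _ | ⟨j, c⟩
  · rfl
  · exfalso
    cases c
    · exact pt_ne j (neg_eq_zero.1 h.symm)
    · exact pt_ne j h.symm
  · exfalso
    cases b
    · exact pt_ne i (neg_eq_zero.1 h)
    · exact pt_ne i h
  · have hij : i = j := by
      apply pt_inj
      cases b <;> cases c
      · left; exact neg_injective h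
      · right
        have h' : -pt i = pt j := h
        rw [← h', neg_neg]
      · right; exact h
      · left; exact h
    subst hij
    have h2 : ∀ i, pt i ≠ -pt i := by decide
    cases b <;> cases c
    · rfl
    · exact absurd (show -pt i = pt i from h).symm (h2 i)
    · exact absurd (show pt i = -pt i from h) (h2 i)
    · rfl

theorem all27_bij : Function.Bijective all27 := by
  refine ⟨all27_inj, fun x => ?_⟩
  by_cases hx : x = 0
  · exact ⟨none, hx.symm⟩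
  · obtain ⟨i, h | h⟩ := pt_surj x hx
    · exact ⟨some (i, true), h.symm⟩
    · exact ⟨some (i, false), h.symm⟩

include hw in
theorem sum_all : ∑ x : X, vv ρ w x = (2 : F) • ∑ i, vv ρ w (pt i) := by
  rw [← Function.Bijective.sum_comp all27_bij, Fintype.sum_option, Fintype.sum_prod_type]
  have h1 : vv ρ w (all27 none) = 0 := vv_zero ρ w
  rw [h1, zero_add, Finset.smul_sum]
  apply Finset.sum_congr rfl
  intro i _
  rw [Fintype.sum_bool]
  have h2 : all27 (some (i, false)) = -pt i := rfl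
  have h3 : all27 (some (i, true)) = pt i := rfl
  rw [h2, h3, vv_neg ρ w hw]
  module

variable (hirr : ∀ W : Submodule F V, (∀ g : G, ∀ v ∈ W, ρ g v ∈ W) → W = ⊥ ∨ W = ⊤) (hne : ρ x12 ≠ 1)

include hirr hne in
theorem fix_zero {v : V} (h : ∀ g : G, ρ g v = v) : v = 0 := by
  let W : Submodule F V :=
    { carrier := {v | ∀ g : G, ρ g v = v}
      zero_mem' := fun g => map_zero _
      add_mem' := fun {a b} ha hb g => by rw [map_add, ha, hb]
      smul_mem' := fun c a ha g => by rw [map_smul, ha] }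
  rcases hirr W (fun g v hv k => by rw [hv g, hv k]) with h1 | h1
  · have h2 : v ∈ W := h
    rw [h1] at h2
    exact (Submodule.mem_bot F).1 h2
  · exfalso
    apply hne
    ext x
    have h2 : x ∈ W := by rw [h1]; trivial
    exact h2 x12

include hw hirr hne in
theorem sum_zero (n2 : (2 : F) ≠ 0) : ∑ i, vv ρ w (pt i) = 0 := by
  have h1 : ∑ x : X, vv ρ w x = 0 := by
    apply fix_zero ρ hirr hne
    intro g
    rw [map_sum]
    have h2 : ∀ x, ρ g (vv ρ w x) = vv ρ w (g.1 *ᵥ x) := vv_smul ρ w hw g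
    simp only [h2]
    have hbij : Function.Bijective (fun x : X => g.1 *ᵥ x) := by
      apply Finite.injective_iff_bijective.1
      intro x y h
      have h3 := congrArg (fun z => (g⁻¹).1 *ᵥ z) h
      simpa only [inv_mulVec'] using h3
    exact Function.Bijective.sum_comp hbij (fun x => vv ρ w x)
  rw [sum_all ρ w hw] at h1
  exact (smul_eq_zero.1 h1).resolve_left n2

include hw hirr in
theorem span_top (hw0 : w ≠ 0) : Submodule.span F (Set.range fun i => vv ρ w (pt i)) = ⊤ := by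
  rcases hirr (Submodule.span F (Set.range fun i => vv ρ w (pt i))) (by
    intro g v hv
    induction hv using Submodule.span_induction with
    | mem v hv =>
      obtain ⟨i, rfl⟩ := hv
      simp only
      rw [vv_smul ρ w hw]
      obtain ⟨j, h | h⟩ := pt_surj _ (mulVec_ne g (pt_ne i))
      · rw [h]; exact Submodule.subset_span ⟨j, rfl⟩
      · rw [h, vv_neg ρ w hw]; exact Submodule.subset_span ⟨j, rfl⟩
    | zero => rw [map_zero]; exact Submodule.zero_mem _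
    | add a b _ _ ha hb => rw [map_add]; exact Submodule.add_mem _ ha hb
    | smul c a _ ha => rw [map_smul]; exact Submodule.smul_mem _ _ ha) with h | h
  · exfalso
    apply hw0
    have h1 : vv ρ w (pt 0) ∈ (⊥ : Submodule F V) := by rw [← h]; exact Submodule.subset_span ⟨0, rfl⟩
    have h2 : vv ρ w (pt 0) = 0 := (Submodule.mem_bot F).1 h1
    have h3 : pt 0 = e1 := rfl
    rw [h3, vv_e1 ρ w hw] at h2
    exact h2
  · exact h

include hw hirr hne in
/-- **the vector system** -/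
theorem sys (n2 : (2 : F) ≠ 0) (h12 : finrank F V = 12) (hw0 : w ≠ 0) :
    Cfsg.Agent.H882.Del.Sys F (fun i => vv ρ w (pt i)) where
  span := span_top ρ w hw hirr hw0
  card := by rw [h12]; rfl
  pos := by rw [h12]; norm_num
  sum := sum_zero ρ w hw hirr hne n2

end rep

end Cfsg.Agent.H915.L33
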