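import Cfsg.Agent.H915.IdemRank

/-!
# Averages over elements of order 3 and pairs of commuting elements of order 3 (helper915)

`av F g = (1 + g + g²) / 3`. For commuting `a, b` of order 3: the four subgroups of `⟨a, b⟩` of order 3 give four orthogonal
idempotents `av g - av a * av b`, with sum `1 - av a * av b` (`Pair.sum`, `Pair.rk`).
-/

set_option autoImplicit false
set_option linter.unusedSectionVars false

namespace Cfsg.Agent.H915.Idem

section ring

variable (F : Type*) [Field F] {R : Type*} [Ring R] [Algebra F R]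

/-- the average over the group of order 3 generated by `g` -/
def av (g : R) : R := (3 : F)⁻¹ • (1 + g + g * g)

variable {F}

theorem av_conj {u g g' : R} (h : u * g = g' * u) : u * av F g = av F g' * u := by
  unfold av
  rw [mul_smul_comm, smul_mul_assoc]
  congr 1
  rw [mul_add, mul_add, add_mul, add_mul, mul_one, one_mul, h, ← mul_assoc u g g, h, mul_assoc g' u g, h,
    ← mul_assoc]

theorem av_comm {x g : R} (h : x * g = g * x) : x * av F g = av F g * x := av_conj h

theorem three_av (h3 : (3 : F) ≠ 0) (g : R) : (3 : F) • av F g = 1 + g + g * g := by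
  unfold av
  rw [smul_smul, mul_inv_cancel₀ h3, one_smul]

theorem mul_av {g : R} (hg : g * g * g = 1) : g * av F g = av F g := by
  unfold av
  rw [mul_smul_comm]
  congr 1
  rw [mul_add, mul_add, mul_one, ← mul_assoc, hg]
  abel

theorem av_mul {g : R} (hg : g * g * g = 1) : av F g * g = av F g := by
  rw [← av_comm rfl, mul_av hg]

theorem av_mul_av_of {g h k : R} (h1 : av F g * h = av F g * k) (h2 : k * h = h * k) :
    av F g * av F h = av F g * av F k := by
  have h3 : av F g * (h * h) = av F g * (k * k) := by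
    rw [← mul_assoc, h1, mul_assoc, h2, ← mul_assoc, h1, mul_assoc]
  unfold av at h1 h3 ⊢
  rw [mul_smul_comm, mul_smul_comm]
  congr 1
  rw [mul_add, mul_add, mul_add, mul_add, h1, h3]

theorem av_one (h3 : (3 : F) ≠ 0) : av F (1 : R) = 1 := by
  unfold av
  have : (1 + 1 + 1 * 1 : R) = (3 : F) • (1 : R) := by
    rw [one_mul]
    module
  rw [this, smul_smul, inv_mul_cancel₀ h3, one_smul]

theorem av_idem (h3 : (3 : F) ≠ 0) {g : R} (hg : g * g * g = 1) : av F g * av F g = av F g := by
  have h1 : av F g * av F g = av F g * av F (1 : R) := av_mul_av_of (by rw [av_mul hg, mul_one]) (by rw [one_mul, mul_one])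
  rw [h1, av_one h3, mul_one]

theorem av_sq {g : R} (hg : g * g * g = 1) : av F (g * g) = av F g := by
  unfold av
  congr 1
  have : g * g * (g * g) = g := by rw [← mul_assoc, hg, one_mul]
  rw [this]
  abel

theorem sum_mul_compl (h3 : (3 : F) ≠ 0) {g : R} (hg : g * g * g = 1) : (1 + g + g * g) * (1 - av F g) = 0 := by
  rw [← three_av h3 g, smul_mul_assoc, mul_sub, mul_one, av_idem h3 hg, sub_self, smul_zero]

end ring

/-- two commuting elements of order 3 -/
structure Pair {R : Type*} [Ring R] (a b : R) : Prop where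
  ha : a * a * a = 1
  hb : b * b * b = 1
  hab : a * b = b * a

namespace Pair

variable {F : Type*} [Field F] {R : Type*} [Ring R] [Algebra F R] {a b : R}

theorem symm (h : Pair a b) : Pair b a := ⟨h.hb, h.ha, h.hab.symm⟩

theorem hm (h : Pair a b) : (a * b) * (a * b) * (a * b) = 1 := by
  have e1 : (a * b) * (a * b) = (a * a) * (b * b) := by
    rw [mul_assoc, ← mul_assoc b a b, ← h.hab, mul_assoc, ← mul_assoc]
  have e2 : b * b * a = a * (b * b) := by rw [mul_assoc, ← h.hab, ← mul_assoc, ← h.hab, mul_assoc]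
  rw [e1, mul_assoc, ← mul_assoc (b * b) a b, e2, mul_assoc a (b * b) b, h.hb, mul_one, h.ha]

theorem bb_a (h : Pair a b) : b * b * a = a * (b * b) := by rw [mul_assoc, ← h.hab, ← mul_assoc, ← h.hab, mul_assoc]

theorem hn (h : Pair a b) : (a * (b * b)) * (a * (b * b)) * (a * (b * b)) = 1 := by
  have h1 : Pair a (b * b) := ⟨h.ha, by
    rw [← mul_assoc (b * b) b b, h.hb, one_mul, ← mul_assoc, h.hb], h.bb_a.symm⟩
  exact h1.hm

/-- the average over `⟨a, b⟩` -/
theorem e_comm (h : Pair a b) : av F a * av F b = av F b * av F a := av_comm (av_comm h.hab.symm).symm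

theorem a_m (h : Pair a b) : av F a * av F (a * b) = av F a * av F b := by
  apply av_mul_av_of
  · rw [← mul_assoc, av_mul h.ha]
  · rw [← mul_assoc, ← h.hab]

theorem a_n (h : Pair a b) : av F a * av F (a * (b * b)) = av F a * av F b := by
  rw [← av_sq (F := F) h.hb]
  apply av_mul_av_of
  · rw [← mul_assoc, av_mul h.ha]
  · rw [← mul_assoc (b * b) a, h.bb_a]

theorem b_m (h : Pair a b) : av F b * av F (a * b) = av F a * av F b := by
  rw [h.hab, h.symm.a_m, h.e_comm]

theorem b_n (h : Pair a b) : av F b * av F (a * (b * b)) = av F a * av F b := by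
  rw [h.e_comm]
  apply av_mul_av_of
  · rw [← h.bb_a, mul_assoc, ← mul_assoc, av_mul h.hb, ← mul_assoc, av_mul h.hb]
  · rw [mul_assoc a (b * b) a, h.bb_a]

theorem m_b (h : Pair a b) : av F (a * b) * av F b = av F a * av F b := by
  rw [← h.b_m]
  exact (av_comm (av_comm (by rw [← mul_assoc, ← h.hab])).symm)

theorem m_n (h : Pair a b) : av F (a * b) * av F (a * (b * b)) = av F a * av F b := by
  rw [← h.m_b]
  apply av_mul_av_of
  · rw [← mul_assoc a b b, ← mul_assoc, av_mul h.hm]
  · rw [← mul_assoc b a, ← h.hab, mul_assoc, mul_assoc, mul_assoc]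

theorem m_a (h : Pair a b) : av F (a * b) * av F a = av F a * av F b := by
  rw [← h.a_m]
  exact (av_comm (av_comm (by rw [mul_assoc, h.hab])).symm)

theorem n_a (h : Pair a b) : av F (a * (b * b)) * av F a = av F a * av F b := by
  rw [← h.a_n]
  exact (av_comm (av_comm (by rw [mul_assoc, h.bb_a])).symm)

theorem n_b (h : Pair a b) : av F (a * (b * b)) * av F b = av F a * av F b := by
  rw [← h.b_n]
  exact (av_comm (av_comm (by rw [← mul_assoc, ← h.hab, mul_assoc, mul_assoc, mul_assoc])).symm)

theorem n_m (h : Pair a b) : av F (a * (b * b)) * av F (a * b) = av F a * av F b := by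
  rw [← h.m_n]
  refine (av_comm (av_comm ?_).symm)
  rw [← mul_assoc a b b, mul_assoc (a * b) b (a * b), ← mul_assoc (a * b) (a * b) b]
  rw [← mul_assoc b a b, ← h.hab, mul_assoc]

/-- the average `e` -/
theorem e_idem (h3 : (3 : F) ≠ 0) (h : Pair a b) : (av F a * av F b) * (av F a * av F b) = av F a * av F b := by
  rw [mul_assoc, ← mul_assoc (av F b), ← h.e_comm, mul_assoc (av F a) (av F b), av_idem h3 h.hb, ← mul_assoc,
    av_idem h3 h.ha]

theorem sum (h3 : (3 : F) ≠ 0) (h : Pair a b) : (1 : R) = av F a * av F b + (av F a - av F a * av F b) +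
    (av F b - av F a * av F b) + (av F (a * b) - av F a * av F b) + (av F (a * (b * b)) - av F a * av F b) := by
  have e1 : (3 : F) • (av F a * av F b) = (3 : F)⁻¹ • ((1 + a + a * a) * (1 + b + b * b)) := by
    rw [← three_av h3 a, ← three_av h3 b, smul_mul_smul_comm, smul_smul, ← mul_assoc, inv_mul_cancel₀ h3, one_mul]
  have e2 : (3 : F)⁻¹ • (1 + 1 + 1 : R) = 1 := by
    have : (1 + 1 + 1 : R) = (3 : F) • (1 : R) := by module
    rw [this, smul_smul, inv_mul_cancel₀ h3, one_smul]
  have e3 : (a * b) * (a * b) = a * a * (b * b) := by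
    rw [mul_assoc, ← mul_assoc b a b, ← h.hab, mul_assoc a b b, ← mul_assoc]
  have e4 : (a * (b * b)) * (a * (b * b)) = a * a * b := by
    rw [mul_assoc, ← mul_assoc (b * b) a, h.bb_a, mul_assoc a (b * b), ← mul_assoc (b * b) b b, h.hb, one_mul, ← mul_assoc]
  have k1 : av F a + av F b + av F (a * b) + av F (a * (b * b)) = 1 + (3 : F) • (av F a * av F b) := by
    rw [e1]
    have e5 : av F a + av F b + av F (a * b) + av F (a * (b * b)) =
        (3 : F)⁻¹ • ((1 + 1 + 1 : R) + (1 + a + a * a) * (1 + b + b * b)) := by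
      unfold av
      rw [e3, e4, ← smul_add, ← smul_add, ← smul_add]
      congr 1
      noncomm_ring
    rw [e5, smul_add, e2]
  have k2 : (3 : F) • (av F a * av F b) = av F a * av F b + av F a * av F b + av F a * av F b := by module
  rw [k2] at k1
  have k3 : av F a * av F b + (av F a - av F a * av F b) + (av F b - av F a * av F b) +
      (av F (a * b) - av F a * av F b) + (av F (a * (b * b)) - av F a * av F b) =
      (av F a + av F b + av F (a * b) + av F (a * (b * b))) -
      (av F a * av F b + av F a * av F b + av F a * av F b) := by abel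
  rw [k3, k1]
  abel

/-- the complement `av g - e` is idempotent when `av g * e = e = e * av g` -/
theorem compl_idem {e f : R} (he : e * e = e) (hf : f * f = f) (h1 : f * e = e) (h2 : e * f = e) :
    (f - e) * (f - e) = f - e := by
  rw [sub_mul, mul_sub, mul_sub, hf, h1, h2, he]
  abel

theorem compl_orth {e f g : R} (he : e * e = e) (h1 : f * e = e) (h2 : e * g = e) (h3 : f * g = e) :
    (f - e) * (g - e) = 0 := by
  rw [sub_mul, mul_sub, mul_sub, h3, h1, h2, he]
  abel

theorem a_e (h3 : (3 : F) ≠ 0) (h : Pair a b) : av F a * (av F a * av F b) = av F a * av F b := by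
  rw [← mul_assoc, av_idem h3 h.ha]

theorem e_a (h3 : (3 : F) ≠ 0) (h : Pair a b) : (av F a * av F b) * av F a = av F a * av F b := by
  rw [h.e_comm, mul_assoc, av_idem h3 h.ha]

theorem b_e (h3 : (3 : F) ≠ 0) (h : Pair a b) : av F b * (av F a * av F b) = av F a * av F b := by
  rw [h.e_comm, h.symm.a_e h3]

theorem e_b (h3 : (3 : F) ≠ 0) (h : Pair a b) : (av F a * av F b) * av F b = av F a * av F b := by
  rw [mul_assoc, av_idem h3 h.hb]

theorem m_e (h : Pair a b) (h3 : (3 : F) ≠ 0) : av F (a * b) * (av F a * av F b) = av F a * av F b := by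
  rw [← mul_assoc, h.m_a, h.e_b h3]

theorem e_m (h : Pair a b) (h3 : (3 : F) ≠ 0) : (av F a * av F b) * av F (a * b) = av F a * av F b := by
  rw [mul_assoc, h.b_m, h.a_e h3]

theorem n_e (h : Pair a b) (h3 : (3 : F) ≠ 0) : av F (a * (b * b)) * (av F a * av F b) = av F a * av F b := by
  rw [← mul_assoc, h.n_a, h.e_b h3]

theorem e_n (h : Pair a b) (h3 : (3 : F) ≠ 0) : (av F a * av F b) * av F (a * (b * b)) = av F a * av F b := by
  rw [mul_assoc, h.b_n, h.a_e h3]

end Pair

section rank

variable {F : Type*} [Field F] {V : Type*} [AddCommGroup V] [Module F V] [FiniteDimensional F V] {a b : Module.End F V}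

/-- the dimension formula -/
theorem Pair.rk (h3 : (3 : F) ≠ 0) (h : Pair a b) : Module.finrank F V = rk (av F a * av F b) +
    rk (av F a - av F a * av F b) + rk (av F b - av F a * av F b) + rk (av F (a * b) - av F a * av F b) +
    rk (av F (a * (b * b)) - av F a * av F b) := by
  have hm3 := h.hm
  have hn3 := h.hn
  have he := h.e_idem h3
  have ia := compl_idem he (av_idem h3 h.ha) (h.a_e h3) (h.e_a h3)
  have ib := compl_idem he (av_idem h3 h.hb) (h.b_e h3) (h.e_b h3)
  have im := compl_idem he (av_idem h3 h.hm) (h.m_e h3) (h.e_m h3)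
  have iN := compl_idem he (av_idem h3 h.hn) (h.n_e h3) (h.e_n h3)
  have oab := compl_orth he (h.a_e h3) (h.e_b h3) rfl
  have oba := compl_orth he (h.b_e h3) (h.e_a h3) h.e_comm.symm
  have oam := compl_orth he (h.a_e h3) (h.e_m h3) h.a_m
  have oma := compl_orth he (h.m_e h3) (h.e_a h3) h.m_a
  have oan := compl_orth he (h.a_e h3) (h.e_n h3) h.a_n
  have ona := compl_orth he (h.n_e h3) (h.e_a h3) h.n_a
  have obm := compl_orth he (h.b_e h3) (h.e_m h3) h.b_m
  have omb := compl_orth he (h.m_e h3) (h.e_b h3) h.m_b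
  have obn := compl_orth he (h.b_e h3) (h.e_n h3) h.b_n
  have onb := compl_orth he (h.n_e h3) (h.e_b h3) h.n_b
  have omn := compl_orth he (h.m_e h3) (h.e_n h3) h.m_n
  have onm := compl_orth he (h.n_e h3) (h.e_m h3) h.n_m
  set e := av F a * av F b with hedef
  set A := av F a - e with hA
  set B := av F b - e with hB
  set M := av F (a * b) - e with hM
  set N := av F (a * (b * b)) - e with hN
  have ea : e * A = 0 := by rw [hA, mul_sub, he, hedef, h.e_a h3, sub_self]
  have eb : e * B = 0 := by rw [hB, mul_sub, he, hedef, h.e_b h3, sub_self]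
  have em : e * M = 0 := by rw [hM, mul_sub, he, hedef, h.e_m h3, sub_self]
  have en : e * N = 0 := by rw [hN, mul_sub, he, hedef, h.e_n h3, sub_self]
  have ae : A * e = 0 := by rw [hA, sub_mul, he, hedef, h.a_e h3, sub_self]
  have be : B * e = 0 := by rw [hB, sub_mul, he, hedef, h.b_e h3, sub_self]
  have me : M * e = 0 := by rw [hM, sub_mul, he, hedef, h.m_e h3, sub_self]
  have ne : N * e = 0 := by rw [hN, sub_mul, he, hedef, h.n_e h3, sub_self]
  have hs := h.sum h3
  rw [← hedef, ← hA, ← hB, ← hM, ← hN] at hs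
  have s1 : (e + A) * (e + A) = e + A := by rw [add_mul, mul_add, mul_add, he, ea, ae, ia]; abel
  have s2 : (e + A + B) * (e + A + B) = e + A + B := by
    rw [add_mul (e + A), mul_add (e + A), mul_add B, s1, add_mul e A B, eb, oab, mul_add B e A, be, oba, ib]; abel
  have s3 : (e + A + B + M) * (e + A + B + M) = e + A + B + M := by
    rw [add_mul (e + A + B), mul_add (e + A + B), mul_add M, s2, add_mul (e + A) B M, add_mul e A M, em, oam, obm,
      mul_add M (e + A) B, mul_add M e A, me, oma, omb, im]; abel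
  rw [← rk_one (F := F) (V := V), hs]
  rw [rk_add s3 iN (by rw [add_mul, add_mul, add_mul, en, oan, obn, omn]; abel)
    (by rw [mul_add, mul_add, mul_add, ne, ona, onb, onm]; abel)]
  rw [rk_add s2 im (by rw [add_mul, add_mul, em, oam, obm]; abel) (by rw [mul_add, mul_add, me, oma, omb]; abel)]
  rw [rk_add s1 ib (by rw [add_mul, eb, oab]; abel) (by rw [mul_add, be, oba]; abel)]
  rw [rk_add he ia ea ae]

/-- trace decomposition -/
theorem Pair.trace (h3 : (3 : F) ≠ 0) (h : Pair a b) (x : Module.End F V) : LinearMap.trace F V x =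
    LinearMap.trace F V (x * (av F a * av F b)) + LinearMap.trace F V (x * (av F a - av F a * av F b)) +
    LinearMap.trace F V (x * (av F b - av F a * av F b)) + LinearMap.trace F V (x * (av F (a * b) - av F a * av F b)) +
    LinearMap.trace F V (x * (av F (a * (b * b)) - av F a * av F b)) := by
  rw [← map_add, ← map_add, ← map_add, ← map_add, ← mul_add, ← mul_add, ← mul_add, ← mul_add, ← h.sum h3, mul_one]

end rank

end Cfsg.Agent.H915.Idem
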