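import Mathlib.LinearAlgebra.Trace
import Mathlib.LinearAlgebra.Projection
import Mathlib.LinearAlgebra.Determinant
import Mathlib.LinearAlgebra.Dimension.Finrank
import Mathlib.LinearAlgebra.FiniteDimensional.Lemmas
import Mathlib.Tactic

/-!
# Ranks and traces of idempotents, averages over elements of order 3 (helper915)
-/

set_option autoImplicit false
set_option linter.unusedSectionVars false

namespace Cfsg.Agent.H915.Idem

open Module

variable {F : Type*} [Field F] {V : Type*} [AddCommGroup V] [Module F V] [FiniteDimensional F V]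

/-- the rank -/
noncomputable def rk (e : End F V) : ℕ := finrank F (LinearMap.range e)

theorem rk_one : rk (1 : End F V) = finrank F V := by
  unfold rk
  have : LinearMap.range (1 : End F V) = ⊤ := LinearMap.range_id
  rw [this, finrank_top]

theorem rk_zero : rk (0 : End F V) = 0 := by
  unfold rk
  rw [LinearMap.range_zero, finrank_bot]

theorem eq_zero_of_rk {e : End F V} (h : rk e = 0) : e = 0 := by
  unfold rk at h
  rw [Submodule.finrank_eq_zero] at h
  exact LinearMap.range_eq_bot.1 h

theorem mem_range_iff {e : End F V} (he : e * e = e) (v : V) : v ∈ LinearMap.range e ↔ e v = v := by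
  constructor
  · rintro ⟨w, rfl⟩
    exact LinearMap.congr_fun he w
  · intro h
    exact ⟨v, h⟩

/-- orthogonal idempotents -/
theorem rk_add {e f : End F V} (he : e * e = e) (hf : f * f = f) (hef : e * f = 0) (hfe : f * e = 0) :
    rk (e + f) = rk e + rk f := by
  unfold rk
  have h1 : LinearMap.range (e + f) = LinearMap.range e ⊔ LinearMap.range f := by
    apply le_antisymm
    · rintro _ ⟨v, rfl⟩
      exact Submodule.add_mem_sup ⟨v, rfl⟩ ⟨v, rfl⟩
    · apply sup_le
      · rintro _ ⟨v, rfl⟩
        refine ⟨e v, ?_⟩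
        have h1 : f (e v) = 0 := LinearMap.congr_fun hfe v
        have h2 : e (e v) = e v := LinearMap.congr_fun he v
        rw [LinearMap.add_apply, h1, h2, add_zero]
      · rintro _ ⟨v, rfl⟩
        refine ⟨f v, ?_⟩
        have h1 : e (f v) = 0 := LinearMap.congr_fun hef v
        have h2 : f (f v) = f v := LinearMap.congr_fun hf v
        rw [LinearMap.add_apply, h1, h2, zero_add]
  have h2 : LinearMap.range e ⊓ LinearMap.range f = ⊥ := by
    rw [eq_bot_iff]
    rintro v ⟨h3, h4⟩
    rw [SetLike.mem_coe, mem_range_iff he] at h3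
    rw [SetLike.mem_coe, mem_range_iff hf] at h4
    have h5 : e (f v) = 0 := LinearMap.congr_fun hef v
    rw [h4, h3] at h5
    rw [h5]
    exact Submodule.zero_mem _
  have h3 := Submodule.finrank_sup_add_finrank_inf_eq (LinearMap.range e) (LinearMap.range f)
  rw [h2, finrank_bot, add_zero] at h3
  rw [h1, h3]

/-- conjugate endomorphisms have the same rank -/
theorem rk_conj {e f u u' : End F V} (h1 : u' * u = 1) (h2 : u * u' = 1) (h : u * e = f * u) : rk e = rk f := by
  unfold rk
  let E : V ≃ₗ[F] V := LinearEquiv.ofLinearMap u u' h2 h1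
  have h3 : LinearMap.range f = (LinearMap.range e).map (E : V →ₗ[F] V) := by
    ext v
    constructor
    · rintro ⟨w, rfl⟩
      refine ⟨e (u' w), ⟨_, rfl⟩, ?_⟩
      have h4 : u (e (u' w)) = f (u (u' w)) := LinearMap.congr_fun h (u' w)
      have h5 : u (u' w) = w := LinearMap.congr_fun h2 w
      rw [h5] at h4
      exact h4
    · rintro ⟨_, ⟨w, rfl⟩, rfl⟩
      refine ⟨u w, ?_⟩
      exact (LinearMap.congr_fun h w).symm
  rw [h3]
  exact (LinearEquiv.finrank_eq (E.submoduleMap (LinearMap.range e)))

/-- trace of an idempotent -/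
theorem trace_idem {e : End F V} (he : e * e = e) : LinearMap.trace F V e = rk e := by
  have h : LinearMap.IsProj (LinearMap.range e) e :=
    ⟨fun x => ⟨x, rfl⟩, fun x hx => (mem_range_iff he x).1 hx⟩
  exact h.trace

theorem trace_comm (a b : End F V) : LinearMap.trace F V (a * b) = LinearMap.trace F V (b * a) :=
  LinearMap.trace_mul_comm F a b

/-- trace of a conjugate -/
theorem trace_conj' {e f u u' : End F V} (h1 : u' * u = 1) (h2 : u * u' = 1) (h : u * e = f * u) :
    LinearMap.trace F V e = LinearMap.trace F V f := by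
  have h3 : e = u' * (f * u) := by rw [← h, ← mul_assoc, h1, one_mul]
  rw [h3, trace_comm, mul_assoc, h2, mul_one]

/-- `h` inverts `g` on the range of `Q` and `1 + g + g² = 0` there: the trace of `h Q` vanishes -/
theorem trace_zero {g h Q : End F V} (h3 : (3 : F) ≠ 0) (hg : g * g * g = 1) (hgQ : g * Q = Q * g)
    (hhg : h * g * Q = g * g * h * Q) (hQ0 : (1 + g + g * g) * Q = 0) : LinearMap.trace F V (h * Q) = 0 := by
  have k0 : g * h * g * Q = h * Q := by
    rw [mul_assoc g h g, mul_assoc, hhg]
    simp only [← mul_assoc]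
    rw [hg, one_mul]
  have k1 : LinearMap.trace F V (h * Q) = LinearMap.trace F V (h * g * Q) := by
    have s1 : g * (h * Q) * (g * g) = h * g * Q := by
      have s2 : g * (h * Q) * (g * g) = (g * h * g * Q) * g := by
        have s3 : Q * g = g * Q := hgQ.symm
        simp only [mul_assoc]
        rw [← mul_assoc Q g g, s3, mul_assoc g Q g, s3, ← mul_assoc g g Q]
      rw [s2, k0, mul_assoc, ← hgQ, ← mul_assoc]
    have s2 : LinearMap.trace F V (g * (h * Q) * (g * g)) = LinearMap.trace F V (h * Q) := by
      rw [trace_comm]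
      congr 1
      simp only [← mul_assoc]
      rw [hg, one_mul]
    rw [← s2, s1]
  have k2 : LinearMap.trace F V (h * g * Q) = LinearMap.trace F V (h * (g * g) * Q) := by
    have s1 : g * (h * g * Q) * (g * g) = h * (g * g) * Q := by
      have s4 : g * (h * g * Q) = h * Q := by rw [← k0]; simp only [mul_assoc]
      rw [s4]
      have s3 : Q * g = g * Q := hgQ.symm
      rw [mul_assoc h Q, ← mul_assoc Q g g, s3, mul_assoc g Q g, s3, ← mul_assoc g g Q, ← mul_assoc]
    have s2 : LinearMap.trace F V (g * (h * g * Q) * (g * g)) = LinearMap.trace F V (h * g * Q) := by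
      rw [trace_comm]
      congr 1
      simp only [← mul_assoc]
      rw [hg, one_mul]
    rw [← s2, s1]
  have k3 : LinearMap.trace F V (h * Q) + LinearMap.trace F V (h * g * Q) +
      LinearMap.trace F V (h * (g * g) * Q) = 0 := by
    rw [← map_add, ← map_add]
    have s1 : h * Q + h * g * Q + h * (g * g) * Q = h * ((1 + g + g * g) * Q) := by noncomm_ring
    rw [s1, hQ0, mul_zero, map_zero]
  rw [← k2, ← k1] at k3
  have k4 : (3 : F) * LinearMap.trace F V (h * Q) = 0 := by linear_combination k3
  exact (mul_eq_zero.1 k4).resolve_left h3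

/-- the rank of `Q` is even -/
theorem rk_even {g h h' Q : End F V} (h2 : (2 : F) ≠ 0) (h3 : (3 : F) ≠ 0) (hQ : Q * Q = Q) (hg : g * g * g = 1)
    (hgQ : g * Q = Q * g) (hh : h' * h = 1) (hhQ : h * Q = Q * h) (hhQ' : h' * Q = Q * h')
    (hhg : h * g * Q = g * g * h * Q) (hQ0 : (1 + g + g * g) * Q = 0) : Even (rk Q) := by
  let X := LinearMap.range Q
  have hgX : ∀ x ∈ X, (g - g * g) x ∈ X := by
    rintro _ ⟨v, rfl⟩
    refine ⟨(g - g * g) v, ?_⟩
    have e1 : (g - g * g) * Q = Q * (g - g * g) := by
      rw [sub_mul, mul_sub, mul_assoc g g Q, hgQ, ← mul_assoc g Q g, hgQ, ← mul_assoc Q g g]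
    exact (LinearMap.congr_fun e1 v).symm
  have hhX : ∀ x ∈ X, h x ∈ X := by
    rintro _ ⟨v, rfl⟩
    exact ⟨h v, (LinearMap.congr_fun hhQ v).symm⟩
  have hhX' : ∀ x ∈ X, h' x ∈ X := by
    rintro _ ⟨v, rfl⟩
    exact ⟨h' v, (LinearMap.congr_fun hhQ' v).symm⟩
  let j : X →ₗ[F] X := (g - g * g).restrict hgX
  let k : X →ₗ[F] X := LinearMap.restrict h hhX
  let k' : X →ₗ[F] X := LinearMap.restrict h' hhX'
  have hk : k' * k = 1 := by
    ext x
    exact LinearMap.congr_fun hh x.1
  have hj : j * j = (-3 : F) • (1 : X →ₗ[F] X) := by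
    apply LinearMap.ext
    rintro ⟨_, ⟨v, rfl⟩⟩
    apply Subtype.ext
    have e1 : (g - g * g) * (g - g * g) * Q = (-3 : F) • Q := by
      have e3 : g * g * g * g = g := by rw [hg, one_mul]
      have e4 : (g - g * g) * (g - g * g) = g * g - g * g * g - g * g * g + g * g * g * g := by noncomm_ring
      have e5 : (g - g * g) * (g - g * g) = (1 + g + g * g) - (1 + 1 + 1) := by
        rw [e4, e3, hg]
        abel
      rw [e5, sub_mul, hQ0, zero_sub, add_mul, add_mul, one_mul, neg_smul]
      congr 1
      module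
    exact LinearMap.congr_fun e1 v
  have hkj : k * j = -(j * k) := by
    apply LinearMap.ext
    rintro ⟨_, ⟨v, rfl⟩⟩
    apply Subtype.ext
    have e1 : h * (g - g * g) * Q = -((g - g * g) * h * Q) := by
      have e2 : h * (g * g) * Q = g * h * Q := by
        have e3 : h * (g * g) * Q = (h * g * Q) * g := by
          rw [mul_assoc (h * g) Q g, ← hgQ]
          simp only [mul_assoc]
        rw [e3, hhg, mul_assoc (g * g * h) Q g, ← hgQ]
        have e4 : g * g * h * (g * Q) = g * g * (h * g * Q) := by simp only [mul_assoc]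
        rw [e4, hhg]
        have e5 : g * g * (g * g * h * Q) = (g * g * g) * (g * h * Q) := by simp only [mul_assoc]
        rw [e5, hg, one_mul]
      rw [mul_sub, sub_mul, e2, hhg, sub_mul, sub_mul]
      abel
    exact LinearMap.congr_fun e1 v
  have hdet : LinearMap.det k * LinearMap.det j = (-1) ^ (rk Q) * (LinearMap.det j * LinearMap.det k) := by
    have e1 := congrArg LinearMap.det hkj
    rw [map_mul] at e1
    rw [e1]
    have e2 : -(j * k) = (-1 : F) • (j * k) := (neg_one_smul F (j * k)).symm
    rw [e2, LinearMap.det_smul, map_mul]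
    rfl
  have hj0 : LinearMap.det j ≠ 0 := by
    intro h0
    have e1 := congrArg LinearMap.det hj
    rw [map_mul, h0, zero_mul, LinearMap.det_smul, map_one, mul_one] at e1
    exact pow_ne_zero _ (neg_ne_zero.2 h3) e1.symm
  have hk0 : LinearMap.det k ≠ 0 := by
    intro h0
    have e1 := congrArg LinearMap.det hk
    rw [map_mul, h0, mul_zero, map_one] at e1
    exact zero_ne_one e1
  have h4 : ((-1 : F)) ^ (rk Q) = 1 := by
    have e1 : (LinearMap.det j * LinearMap.det k) * ((-1) ^ (rk Q) - 1) = 0 := by
      linear_combination -hdet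
    have e2 := (mul_eq_zero.1 e1).resolve_left (mul_ne_zero hj0 hk0)
    linear_combination e2
  by_contra hodd
  rw [Nat.not_even_iff_odd] at hodd
  rw [hodd.neg_one_pow] at h4
  apply h2
  linear_combination -h4

/-- on a two-dimensional space, maps commuting with a non-scalar map commute -/
theorem comm_of_rk_two {A S T Q : End F V} (hQ : Q * Q = Q) (h2 : rk Q = 2) (hA : A * Q = Q * A) (hS : S * Q = Q * S)
    (hT : T * Q = Q * T) (hAS : A * S * Q = S * A * Q) (hAT : A * T * Q = T * A * Q)
    (hns : ¬ ∃ c : F, A * Q = c • Q) : S * T * Q = T * S * Q := by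
  -- a cyclic vector
  obtain ⟨x, hx, hxi⟩ : ∃ x, Q x = x ∧ LinearIndependent F ![x, A x] := by
    by_contra hcon
    push Not at hcon
    apply hns
    -- every vector of the range is an eigenvector
    have h3 : ∀ x, Q x = x → x ≠ 0 → ∃ c : F, A x = c • x := by
      intro x hx hx0
      have h4 := hcon x hx
      rw [LinearIndependent.pair_iff' hx0] at h4
      push Not at h4
      obtain ⟨c, hc⟩ := h4
      exact ⟨c, hc.symm⟩
    have hne : ∃ x, Q x = x ∧ x ≠ 0 := by
      have h4 : LinearMap.range Q ≠ ⊥ := by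
        intro h5
        unfold rk at h2
        rw [h5, finrank_bot] at h2
        exact absurd h2 (by norm_num)
      obtain ⟨x, hx, hx0⟩ := Submodule.exists_mem_ne_zero_of_ne_bot h4
      exact ⟨x, (mem_range_iff hQ x).1 hx, hx0⟩
    obtain ⟨x, hx, hx0⟩ := hne
    obtain ⟨c, hc⟩ := h3 x hx hx0
    refine ⟨c, ?_⟩
    apply LinearMap.ext
    intro v
    change A (Q v) = c • Q v
    have hy : Q (Q v) = Q v := LinearMap.congr_fun hQ v
    set y := Q v with hydef
    by_cases hy0 : y = 0
    · rw [hy0, map_zero, smul_zero]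
    obtain ⟨d, hd⟩ := h3 y hy hy0
    by_cases hxy : x + y = 0
    · have h4 : y = -x := by rw [eq_neg_iff_add_eq_zero, add_comm]; exact hxy
      rw [h4, map_neg, hc, smul_neg]
    obtain ⟨e, he⟩ := h3 (x + y) (by rw [map_add, hx, hy]) hxy
    rw [map_add, hc, hd, smul_add] at he
    by_cases hde : d = c
    · rw [hd, hde]
    · -- c x + d y = e x + e y
      have h4 : (c - e) • x = (e - d) • y := by
        rw [sub_smul, sub_smul, sub_eq_sub_iff_add_eq_add, he, add_comm]
      by_cases hce : c = e
      · rw [hce, sub_self, zero_smul] at h4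
        have h5 := (smul_eq_zero.1 h4.symm).resolve_right hy0
        rw [hd]
        rw [hce, ← sub_eq_zero.1 h5]
      · have h5 : x = ((c - e)⁻¹ * (e - d)) • y := by
          rw [mul_smul, ← h4, smul_smul, inv_mul_cancel₀ (sub_ne_zero.2 hce), one_smul]
        have h6 : A x = d • x := by
          rw [h5, map_smul, hd, smul_comm]
        rw [hc] at h6
        have h7 : (c - d) • x = 0 := by rw [sub_smul, h6, sub_self]
        have h8 := (smul_eq_zero.1 h7).resolve_right hx0
        exact absurd (sub_eq_zero.1 h8).symm hde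
  have hAx : Q (A x) = A x := by
    have h3 := LinearMap.congr_fun hA x
    have h4 : A (Q x) = Q (A x) := h3
    rw [hx] at h4
    exact h4.symm
  -- span
  have hspan : ∀ v, Q v = v → ∃ a b : F, v = a • x + b • A x := by
    intro v hv
    have h3 : Submodule.span F (Set.range ![x, A x]) = LinearMap.range Q := by
      apply Submodule.eq_of_le_of_finrank_eq
      · rw [Submodule.span_le]
        rintro _ ⟨i, rfl⟩
        fin_cases i
        · exact (mem_range_iff hQ x).2 hx
        · exact (mem_range_iff hQ (A x)).2 hAx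
      · rw [finrank_span_eq_card hxi]
        unfold rk at h2
        rw [h2]
        rfl
    have h4 : v ∈ Submodule.span F (Set.range ![x, A x]) := by
      rw [h3]
      exact (mem_range_iff hQ v).2 hv
    rw [Matrix.range_cons, Matrix.range_cons, Matrix.range_empty, Set.union_empty, Set.singleton_union,
      Submodule.mem_span_pair] at h4
    obtain ⟨a, b, hab⟩ := h4
    exact ⟨a, b, hab.symm⟩
  have hc : ∀ S : End F V, S * Q = Q * S → A * S * Q = S * A * Q → ∃ a b : F, S * Q = (a • 1 + b • A) * Q := by
    intro S hS hAS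
    have h3 : Q (S x) = S x := by
      have h4 : S (Q x) = Q (S x) := LinearMap.congr_fun hS x
      rw [hx] at h4
      exact h4.symm
    obtain ⟨a, b, hab⟩ := hspan _ h3
    refine ⟨a, b, ?_⟩
    apply LinearMap.ext
    intro v
    have hv : Q (Q v) = Q v := LinearMap.congr_fun hQ v
    obtain ⟨s, t, hst⟩ := hspan _ hv
    change S (Q v) = a • (Q v) + b • A (Q v)
    have h5 : S (A x) = A (S x) := by
      have h6 : A (S (Q x)) = S (A (Q x)) := LinearMap.congr_fun hAS x
      rw [hx] at h6
      exact h6.symm
    rw [hst, map_add, map_smul, map_smul, h5, hab]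
    simp only [map_add, map_smul]
    module
  obtain ⟨a, b, h3⟩ := hc S hS hAS
  obtain ⟨c, d, h4⟩ := hc T hT hAT
  have k1 : S * T * Q = (a • 1 + b • A) * (c • 1 + d • A) * Q := by
    rw [mul_assoc S T Q, hT, ← mul_assoc, h3, mul_assoc, ← hT, h4, ← mul_assoc]
  have k2 : T * S * Q = (c • 1 + d • A) * (a • 1 + b • A) * Q := by
    rw [mul_assoc T S Q, hS, ← mul_assoc, h4, mul_assoc, ← hS, h3, ← mul_assoc]
  rw [k1, k2]
  congr 1
  simp only [add_mul, mul_add, smul_mul_assoc, mul_smul_comm, one_mul, mul_one]
  module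

end Cfsg.Agent.H915.Idem
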