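import Cfsg.Agent.H915.L33Polar

/-!
# Modules of dimension 12 of `SL₃(3)`: the eigenvectors of the graph automorphism (helper915)
-/

set_option autoImplicit false
set_option linter.unusedSectionVars false

namespace Cfsg.Agent.H915.L33

open Module Matrix Cfsg.Agent.H915.Idem

/-- neighbours -/
def nb : Fin 13 → Fin 4 → Fin 13 :=
  ![![1, 2, 7, 8], ![0, 2, 5, 6], ![0, 1, 3, 4], ![2, 4, 11, 12], ![2, 3, 9, 10], ![1, 6, 10, 12], ![1, 5, 9, 11],
    ![0, 8, 10, 11], ![0, 7, 9, 12], ![9, 4, 6, 8], ![10, 4, 5, 7], ![11, 3, 6, 7], ![12, 3, 5, 8]]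

set_option maxRecDepth 100000 in
theorem inc_nb : ∀ i j, inc i j = ∑ t, if nb j t = i then 1 else 0 := by decide

section field

variable {F : Type*} [Field F]

theorem sum_mul_inc (f : Fin 13 → F) (j : Fin 13) :
    ∑ i, f i * (inc i j : F) = f (nb j 0) + f (nb j 1) + f (nb j 2) + f (nb j 3) := by
  have h1 : ∀ i, f i * (inc i j : F) = ∑ t, if nb j t = i then f i else 0 := by
    intro i
    rw [inc_nb, Nat.cast_sum, Finset.mul_sum]
    apply Finset.sum_congr rfl
    intro t _
    split_ifs <;> simp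
  rw [Finset.sum_congr rfl (fun i _ => h1 i), Finset.sum_comm]
  have h2 : ∀ t, (∑ i, if nb j t = i then f i else 0) = f (nb j t) := by
    intro t
    rw [Finset.sum_ite_eq Finset.univ (nb j t) f, if_pos (Finset.mem_univ _)]
  rw [Finset.sum_congr rfl (fun t _ => h2 t)]
  rw [Fin.sum_univ_four]

/-- coefficients of the eigenvectors -/
def C (l : F) : Fin 6 → Fin 13 → F :=
  ![![0, 0, 0, 1 + l, -(1 + l), 0, 0, 0, 0, l, l, -l, -l],
    ![0, 0, 0, 0, 0, 1 + l, -(1 + l), 0, 0, l, -l, l, -l],
    ![0, 0, 0, 0, 0, 0, 0, 1 + l, -(1 + l), l, -l, -l, l],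
    ![l, l, l, 1 + 2 * l, 1 + 2 * l, 1 + 2 * l, 1 + 2 * l, 1 + 2 * l, 1 + 2 * l, 0, 0, 0, 0],
    ![-2 * l, 2 * l, 0, 0, 0, -(1 - l), -(1 - l), 1 - l, 1 - l, 0, 0, 0, 0],
    ![-2 * l, -2 * l, 4 * l, -2 * (1 - l), -2 * (1 - l), 1 - l, 1 - l, 1 - l, 1 - l, 0, 0, 0, 0]]

def κ (l : F) : Fin 6 → F := ![0, 0, 0, 2 + 3 * l, 0, 0]

theorem C_eig {l : F} (hl : 3 * (l * l) = 1) (k : Fin 6) (j : Fin 13) :
    l * ∑ i, C l k i * (inc i j : F) + C l k j = κ l k := by
  rw [sum_mul_inc]
  fin_cases k <;> fin_cases j <;> simp [C, κ, nb] <;>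
    first
    | ring1
    | linear_combination hl
    | linear_combination -hl
    | linear_combination 2 * hl
    | linear_combination (-2) * hl
    | (right; ring1)

def N (l : F) : Fin 6 → F :=
  ![-52 * (1 + l), -52 * (1 + l), -52 * (1 + l), -84 - 132 * l, -104 * (1 - l), -312 * (1 - l)]

theorem C_gram {l : F} (hl : 3 * (l * l) = 1) (k m : Fin 6) :
    (∑ i, C l k i) * (∑ i, C l m i) - 13 * ∑ i, C l k i * C l m i = if k = m then N l k else 0 := by
  fin_cases k <;> fin_cases m <;> simp [C, N, Fin.sum_univ_succ] <;>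
    first
    | ring1
    | linear_combination (-26) * hl
    | linear_combination (-42) * hl
    | linear_combination (-52) * hl
    | linear_combination (-156) * hl
    | linear_combination 26 * hl
    | linear_combination 42 * hl
    | linear_combination 52 * hl
    | linear_combination 156 * hl
    | (right; ring1)

end field

namespace Data

variable {F : Type*} [Field F] {V : Type*} [AddCommGroup V] [Module F V] [FiniteDimensional F V]
variable {ρ : G →* End F V} {w : V} (T : Data ρ w)

/-- the eigenvectors -/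
noncomputable def E (l : F) (k : Fin 6) : V := ∑ i, C l k i • T.u i

variable {B : LinearMap.BilinForm F V} {h : End F V}

theorem h_E {l m : F} (hu : ∀ i, h (T.u i) = m • ∑ j, (inc i j : F) • T.u j) {ε : F}
    (hm : ε * l = m) (hε : ε * ε = 1) (hl : 3 * (l * l) = 1) (k : Fin 6) : h (T.E l k) = (-ε) • T.E l k := by
  have h1 : h (T.E l k) = ∑ j, (m * ∑ i, C l k i * (inc i j : F)) • T.u j := by
    unfold E
    rw [map_sum]
    have h2 : ∀ i, h (C l k i • T.u i) = ∑ j, (m * (C l k i * (inc i j : F))) • T.u j := by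
      intro i
      rw [map_smul, hu, Finset.smul_sum, Finset.smul_sum]
      apply Finset.sum_congr rfl
      intro j _
      rw [smul_smul, smul_smul]
      congr 1
      ring
    rw [Finset.sum_congr rfl (fun i _ => h2 i), Finset.sum_comm]
    apply Finset.sum_congr rfl
    intro j _
    rw [← Finset.sum_smul, ← Finset.mul_sum]
  have h3 : ∀ j, (m * ∑ i, C l k i * (inc i j : F)) • T.u j = (ε * κ l k) • T.u j - (ε * C l k j) • T.u j := by
    intro j
    rw [← sub_smul]
    congr 1
    have h4 := C_eig hl k j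
    rw [← hm]
    linear_combination ε * h4
  rw [h1, Finset.sum_congr rfl (fun j _ => h3 j), Finset.sum_sub_distrib, ← Finset.smul_sum, T.sys.sum, smul_zero, zero_sub]
  unfold E
  rw [Finset.smul_sum, ← Finset.sum_neg_distrib]
  apply Finset.sum_congr rfl
  intro j _
  rw [smul_smul, neg_mul, neg_smul]

theorem B_E {b : F} (hb : ∀ i j, B (T.u i) (T.u j) = b * (1 - 13 * if i = j then 1 else 0)) {l : F}
    (hl : 3 * (l * l) = 1) (k m : Fin 6) : B (T.E l k) (T.E l m) = if k = m then b * N l k else 0 := by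
  have h1 : B (T.E l k) (T.E l m) = b * ((∑ i, C l k i) * (∑ i, C l m i) - 13 * ∑ i, C l k i * C l m i) := by
    unfold E
    have h0 : B (∑ i, C l k i • T.u i) = ∑ i, B (C l k i • T.u i) := map_sum B _ _
    rw [h0, LinearMap.sum_apply]
    have h2 : ∀ i, B (C l k i • T.u i) (∑ j, C l m j • T.u j) =
        b * (C l k i * ∑ j, C l m j) - 13 * b * (C l k i * C l m i) := by
      intro i
      rw [map_smul, LinearMap.smul_apply, map_sum, smul_eq_mul]
      have h3 : ∀ j, B (T.u i) (C l m j • T.u j) = b * C l m j - 13 * b * if i = j then C l m j else 0 := by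
        intro j
        rw [map_smul, hb, smul_eq_mul]
        split_ifs <;> ring
      rw [Finset.sum_congr rfl (fun j _ => h3 j), Finset.sum_sub_distrib, ← Finset.mul_sum, ← Finset.mul_sum,
        Finset.sum_ite_eq Finset.univ i, if_pos (Finset.mem_univ i)]
      ring
    rw [Finset.sum_congr rfl (fun i _ => h2 i), Finset.sum_sub_distrib, ← Finset.mul_sum, ← Finset.mul_sum, ← Finset.sum_mul]
    ring
  rw [h1, C_gram hl]
  split_ifs
  · rfl
  · rw [mul_zero]

end Data

end Cfsg.Agent.H915.L33
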