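import Cfsg.Agent.H915.L33Full

/-!
# Modules of dimension 12 of `SL₃(3)`: a vector fixed by the stabiliser of a point, II (helper915)
-/

set_option autoImplicit false
set_option linter.unusedSectionVars false

namespace Cfsg.Agent.H915.Idem

open Module

variable {F : Type*} [Field F] {V : Type*} [AddCommGroup V] [Module F V] [FiniteDimensional F V]

theorem cast_inj_two (n2 : (2 : F) ≠ 0) {x y : ℕ} (hx : x ≤ 2) (hy : y ≤ 2) (h : (x : F) = y) : x = y := by
  interval_cases x <;> interval_cases y <;> try rfl
  · exact absurd h (by norm_num)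
  · exact absurd (by simpa using h.symm) n2
  · exact absurd h (by norm_num)
  · exfalso
    have h1 : (1 : F) = 2 := by simpa using h
    have h2 : (1 : F) = 0 := by linear_combination -h1
    exact one_ne_zero h2
  · exact absurd (by simpa using h) n2
  · exfalso
    have h1 : (2 : F) = 1 := by simpa using h
    have h2 : (1 : F) = 0 := by linear_combination h1
    exact one_ne_zero h2

/-- commuting involutions `x`, `y`, `x y` with the same trace on a two-dimensional space are trivial -/
theorem torus_trivial (n2 : (2 : F) ≠ 0) {x y C : End F V} (hC : C * C = C) (hr : rk C = 2) (hxx : x * x = 1)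
    (hyy : y * y = 1) (hxy : x * y = y * x) (hx : x * C = C * x) (hy : y * C = C * y)
    (t1 : LinearMap.trace F V (x * C) = LinearMap.trace F V (y * C))
    (t2 : LinearMap.trace F V (y * C) = LinearMap.trace F V (x * y * C)) : x * C = C ∧ y * C = C := by
  have hh : (2 : F)⁻¹ * 2 = 1 := inv_mul_cancel₀ n2
  set u := (2 : F)⁻¹ • (C - x * C) with hu
  set w := (2 : F)⁻¹ • (C - y * C) with hw
  have xC : x * C = C - (2 : F) • u := by rw [hu, smul_smul, mul_inv_cancel₀ n2, one_smul]; abel
  have yC : y * C = C - (2 : F) • w := by rw [hw, smul_smul, mul_inv_cancel₀ n2, one_smul]; abel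
  have xC2 : x * C * (x * C) = C := by
    rw [hx, mul_assoc, ← mul_assoc x C x, hx, mul_assoc C x x, hxx, mul_one, hC]
  have yC2 : y * C * (y * C) = C := by
    rw [hy, mul_assoc, ← mul_assoc y C y, hy, mul_assoc C y y, hyy, mul_one, hC]
  have xCC : x * C * C = x * C := by rw [mul_assoc, hC]
  have CxC : C * (x * C) = x * C := by rw [hx, ← mul_assoc, hC]
  have yCC : y * C * C = y * C := by rw [mul_assoc, hC]
  have CyC : C * (y * C) = y * C := by rw [hy, ← mul_assoc, hC]
  have huu : u * u = u := by
    rw [hu, smul_mul_smul_comm, sub_mul, mul_sub, mul_sub, hC, CxC, xCC, xC2]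
    have e1 : C - x * C - (x * C - C) = (2 : F) • (C - x * C) := by module
    rw [e1, smul_smul, mul_assoc, hh, mul_one]
  have hww : w * w = w := by
    rw [hw, smul_mul_smul_comm, sub_mul, mul_sub, mul_sub, hC, CyC, yCC, yC2]
    have e1 : C - y * C - (y * C - C) = (2 : F) • (C - y * C) := by module
    rw [e1, smul_smul, mul_assoc, hh, mul_one]
  have xyC : x * C * (y * C) = x * y * C := by rw [mul_assoc, CyC, ← mul_assoc]
  have yxC : y * C * (x * C) = x * y * C := by rw [mul_assoc, CxC, ← mul_assoc, hxy]
  have huw : u * w = w * u := by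
    rw [hu, hw, smul_mul_smul_comm, smul_mul_smul_comm, sub_mul, sub_mul, mul_sub, mul_sub, mul_sub, mul_sub, hC, CxC, CyC,
      xCC, yCC, xyC, yxC]
    congr 1
    abel
  have Cu : C * u = u := by rw [hu, mul_smul_comm, mul_sub, hC, CxC]
  have uC : u * C = u := by rw [hu, smul_mul_assoc, sub_mul, hC, xCC]
  have Cw : C * w = w := by rw [hw, mul_smul_comm, mul_sub, hC, CyC]
  have wC : w * C = w := by rw [hw, smul_mul_assoc, sub_mul, hC, yCC]
  have iuw : (u * w) * (u * w) = u * w := by
    rw [mul_assoc, ← mul_assoc w u w, ← huw, mul_assoc u w w, hww, ← mul_assoc, huu]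
  have i1 : (u - u * w) * (u - u * w) = u - u * w := Pair.compl_idem iuw huu (by rw [← mul_assoc, huu])
    (by rw [mul_assoc, ← huw, ← mul_assoc, huu])
  have i2 : (w - u * w) * (w - u * w) = w - u * w := Pair.compl_idem iuw hww (by rw [huw, ← mul_assoc, hww])
    (by rw [mul_assoc, hww])
  have i3 : (C - u) * (C - u) = C - u := Pair.compl_idem huu hC Cu uC
  have r1 : rk u = rk (u * w) + rk (u - u * w) := by
    rw [← rk_add iuw i1 (by rw [mul_sub, iuw, mul_assoc, ← huw, ← mul_assoc, huu, sub_self])
      (by rw [sub_mul, iuw, ← mul_assoc, huu, sub_self])]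
    congr 1
    abel
  have r2 : rk w = rk (u * w) + rk (w - u * w) := by
    rw [← rk_add iuw i2 (by rw [mul_sub, iuw, mul_assoc, hww, sub_self])
      (by rw [sub_mul, iuw, huw, ← mul_assoc, hww, sub_self])]
    congr 1
    abel
  have r3 : rk C = rk u + rk (C - u) := by
    rw [← rk_add huu i3 (by rw [mul_sub, huu, uC, sub_self]) (by rw [sub_mul, huu, Cu, sub_self])]
    congr 1
    abel
  have uwuw : u * w * w = u * w := by rw [mul_assoc, hww]
  have i4 : (C - u - (w - u * w)) * (C - u - (w - u * w)) = C - u - (w - u * w) := by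
    refine Pair.compl_idem i2 i3 ?_ ?_
    · rw [sub_mul, mul_sub, mul_sub, Cw, ← mul_assoc, Cu, ← mul_assoc u u w, huu]
      abel
    · rw [mul_sub, sub_mul, sub_mul, wC, mul_assoc u w C, wC, ← huw, mul_assoc u w u, ← huw, ← mul_assoc u u w, huu]
      abel
  have r4 : rk (C - u) = rk (w - u * w) + rk (C - u - (w - u * w)) := by
    rw [← rk_add i2 i4 ?_ ?_]
    · congr 1
      abel
    · rw [mul_sub, i2, mul_sub, sub_mul, sub_mul, wC, mul_assoc u w C, wC, ← huw, mul_assoc u w u, ← huw,
        ← mul_assoc u u w, huu]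
      abel
    · rw [sub_mul, i2, sub_mul, mul_sub, mul_sub, Cw, ← mul_assoc, Cu, ← mul_assoc u u w, huu]
      abel
  -- traces
  have T0 := trace_idem hC
  have Tu := trace_idem huu
  have Tw := trace_idem hww
  have Tuw := trace_idem iuw
  have T1 : LinearMap.trace F V (x * C) = 2 - 2 * (rk u : F) := by
    rw [xC, map_sub, map_smul, T0, Tu, hr, smul_eq_mul]
    norm_num
  have T2 : LinearMap.trace F V (y * C) = 2 - 2 * (rk w : F) := by
    rw [yC, map_sub, map_smul, T0, Tw, hr, smul_eq_mul]
    norm_num
  have T3 : LinearMap.trace F V (x * y * C) = 2 - 2 * (rk u : F) - 2 * (rk w : F) + 4 * (rk (u * w) : F) := by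
    rw [← xyC, xC, yC]
    have e1 : (C - (2 : F) • u) * (C - (2 : F) • w) = C - (2 : F) • u - (2 : F) • w + (4 : F) • (u * w) := by
      rw [sub_mul, mul_sub, mul_sub, hC, mul_smul_comm, smul_mul_assoc, smul_mul_smul_comm, Cw, uC]
      have : (2 : F) * 2 = 4 := by norm_num
      rw [this]
      abel
    have e2 : LinearMap.trace F V (C - (2 : F) • u - (2 : F) • w + (4 : F) • (u * w)) =
        LinearMap.trace F V C - 2 * LinearMap.trace F V u - 2 * LinearMap.trace F V w +
          4 * LinearMap.trace F V (u * w) := by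
      clear_value u w
      rw [map_add, map_sub, map_sub, map_smul, map_smul, map_smul]
      simp only [smul_eq_mul]
    rw [e1, e2, T0, Tu, Tw, Tuw, hr]
    norm_num
  have b1 : rk u ≤ 2 := by omega
  have b2 : rk w ≤ 2 := by omega
  have b3 : rk (u * w) ≤ 2 := by omega
  have k1 : rk u = rk w := by
    apply cast_inj_two n2 b1 b2
    have e1 : (2 : F) * ((rk u : F) - rk w) = 0 := by
      rw [T1, T2] at t1
      linear_combination -t1
    have e2 := (mul_eq_zero.1 e1).resolve_left n2
    exact sub_eq_zero.1 e2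
  have k2 : (rk u : F) = 2 * (rk (u * w) : F) := by
    rw [T2, T3, ← k1] at t2
    have e1 : (2 : F) * ((rk u : F) - 2 * rk (u * w)) = 0 := by linear_combination t2
    have e2 := (mul_eq_zero.1 e1).resolve_left n2
    exact sub_eq_zero.1 e2
  have k3 : rk u = 0 := by
    by_contra h0
    have h1 : rk u = 1 ∨ rk u = 2 := by omega
    rcases h1 with h1 | h1
    · have h2 : rk (u * w) = 0 ∨ rk (u * w) = 1 := by omega
      rcases h2 with h2 | h2
      · rw [h1, h2] at k2
        simp at k2
      · rw [h1, h2] at k2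
        have h3 : (1 : F) = 2 := by simpa using k2
        have h4 : (1 : F) = 0 := by linear_combination -h3
        exact one_ne_zero h4
    · have h2 : rk (u * w) = 2 := by omega
      rw [h1, h2] at k2
      apply n2
      have h3 : (2 : F) = 2 * 2 := by simpa using k2
      linear_combination -h3
  have zu := eq_zero_of_rk k3
  have zw := eq_zero_of_rk (k1 ▸ k3)
  rw [zu, smul_zero, sub_zero] at xC
  rw [zw, smul_zero, sub_zero] at yC
  exact ⟨xC, yC⟩

end Cfsg.Agent.H915.Idem
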