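import Cfsg.Agent.H915.L33Fix

/-!
# Modules of dimension 12 of `SL₃(3)`: a vector fixed by the stabiliser of a point, III (helper915)
-/

set_option autoImplicit false
set_option linter.unusedSectionVars false

namespace Cfsg.Agent.H915.Idem

open Module

variable {F : Type*} [Field F] {V : Type*} [AddCommGroup V] [Module F V] [FiniteDimensional F V]

theorem rk_le_of_eq {C x p y : End F V} (h : C = x * p * y) : rk C ≤ rk p := by
  subst h
  unfold rk
  have h1 : LinearMap.range (x * p * y) ≤ (LinearMap.range p).map x := by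
    rintro _ ⟨v, rfl⟩
    exact ⟨p (y v), ⟨y v, rfl⟩, rfl⟩
  exact (Submodule.finrank_mono h1).trans (Submodule.finrank_map_le x _)

/-- the computation: an involution `s`, idempotents `C ≤ e` with `C s C = -C/3` and `rk C = rk (e - C)` -/
theorem trace_se (n2 : (2 : F) ≠ 0) (n3 : (3 : F) ≠ 0) {C e s : End F V} (hC : C * C = C) (he : e * e = e)
    (eC : e * C = C) (Ce : C * e = C) (hs : s * s = 1) (se : s * e = e * s) (hr : rk C = rk (e - C))
    (h : C * s * C = -((3 : F)⁻¹ • C)) : LinearMap.trace F V (s * e) = 0 := by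
  obtain ⟨z, hz⟩ : ∃ z : F, z = (3 : F)⁻¹ := ⟨_, rfl⟩
  rw [← hz] at h
  have z3 : 3 * z = 1 := by rw [hz, mul_inv_cancel₀ n3]
  have n8 : (8 : F) ≠ 0 := by
    have : (8 : F) = 2 * 2 * 2 := by norm_num
    rw [this]
    exact mul_ne_zero (mul_ne_zero n2 n2) n2
  obtain ⟨k, hk⟩ : ∃ k : F, k = 9 / 8 := ⟨_, rfl⟩
  have hk1 : k * (1 - z * z) = 1 := by
    have e1 : (8 : F) * (k * (1 - z * z)) = 8 := by
      have : (8 : F) * k = 9 := by rw [hk]; field_simp
      linear_combination (1 - z * z) * this - (3 * z + 1) * z3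
    have e2 : (8 : F) * (k * (1 - z * z) - 1) = 0 := by linear_combination e1
    exact sub_eq_zero.1 ((mul_eq_zero.1 e2).resolve_left n8)
  have sCCs : s * C * (C * s) = s * C * s := by rw [mul_assoc s C, ← mul_assoc C C s, hC, ← mul_assoc]
  have sCC : s * C * C = s * C := by rw [mul_assoc, hC]
  have CCs : C * (C * s) = C * s := by rw [← mul_assoc, hC]
  have CssC : C * s * (s * C) = C := by rw [mul_assoc, ← mul_assoc s s C, hs, one_mul, hC]
  have CsC' : C * (s * C) = -(z • C) := by rw [← mul_assoc, h]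
  obtain ⟨β, hβ⟩ : ∃ β : End F V, β = C * s + z • C := ⟨_, rfl⟩
  obtain ⟨γ, hγ⟩ : ∃ γ : End F V, γ = s * C + z • C := ⟨_, rfl⟩
  have βγ : β * γ = (1 - z * z) • C := by
    rw [hβ, hγ, add_mul, mul_add, mul_add, CssC, mul_smul_comm, h, smul_mul_assoc, CsC', smul_mul_smul_comm, hC]
    module
  obtain ⟨π, hπ⟩ : ∃ π : End F V, π = k • (γ * β) := ⟨_, rfl⟩
  have γC : γ * C = γ := by rw [hγ, add_mul, sCC, smul_mul_assoc, hC]
  have Cβ : C * β = β := by rw [hβ, mul_add, CCs, mul_smul_comm, hC]
  have ππ : π * π = π := by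
    rw [hπ, smul_mul_smul_comm, mul_assoc γ β, ← mul_assoc β γ β, βγ, smul_mul_assoc, Cβ, mul_smul_comm, smul_smul,
      mul_assoc, hk1, mul_one]
  have rC : rk C ≤ rk π := by
    refine rk_le_of_eq (x := k • β) (y := γ) ?_
    rw [hπ, smul_mul_smul_comm, smul_mul_assoc, mul_assoc β (γ * β) γ, mul_assoc γ β γ, ← mul_assoc β γ, βγ,
      smul_mul_smul_comm, hC, smul_smul]
    have : k * k * ((1 - z * z) * (1 - z * z)) = 1 := by
      have e1 : k * k * ((1 - z * z) * (1 - z * z)) = (k * (1 - z * z)) * (k * (1 - z * z)) := by ring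
      rw [e1, hk1, one_mul]
    rw [this, one_smul]
  -- `π` is in the corner of `Y = e - C`
  have eβ : β * e = β := by rw [hβ, add_mul, mul_assoc C s e, se, ← mul_assoc, Ce, smul_mul_assoc, Ce]
  have eγ : e * γ = γ := by rw [hγ, mul_add, ← mul_assoc e s C, ← se, mul_assoc, eC, mul_smul_comm, eC]
  have Cγ : C * γ = 0 := by
    rw [hγ, mul_add, CsC', mul_smul_comm, hC, neg_add_cancel]
  have βC : β * C = 0 := by
    rw [hβ, add_mul, h, smul_mul_assoc, hC, neg_add_cancel]
  have Yπ : (e - C) * π = π := by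
    rw [hπ, mul_smul_comm, ← mul_assoc, sub_mul, eγ, Cγ, sub_zero]
  have πY : π * (e - C) = π := by
    rw [hπ, smul_mul_assoc, mul_assoc, mul_sub, eβ, βC, sub_zero]
  have YY : (e - C) * (e - C) = e - C := Pair.compl_idem hC he eC Ce
  have iY : (e - C - π) * (e - C - π) = e - C - π := Pair.compl_idem ππ YY Yπ πY
  have rY : rk (e - C) = rk π + rk (e - C - π) := by
    rw [← rk_add ππ iY (by rw [mul_sub, πY, ππ, sub_self]) (by rw [sub_mul, Yπ, ππ, sub_self])]
    congr 1
    abel
  have r0 : rk (e - C - π) = 0 := by omega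
  have Yeq : e - C = π := sub_eq_zero.1 (eq_zero_of_rk r0)
  -- traces
  have t0 : LinearMap.trace F V (s * C) = -(z * LinearMap.trace F V C) := by
    have e1 : LinearMap.trace F V (s * C) = LinearMap.trace F V (C * s * C) := by
      rw [mul_assoc, LinearMap.trace_mul_comm F C (s * C), mul_assoc, hC]
    rw [e1, h, map_neg, map_smul, smul_eq_mul]
  have t1 : LinearMap.trace F V (s * π) = k * ((1 - z * z) * (z * LinearMap.trace F V C)) := by
    have e1 : s * π = k • (C * s + z • (s * (C * s)) + z • C + (z * z) • (s * C)) := by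
      have e0 : (s * C + z • C) * (C * s + z • C) = s * C * s + z • (s * C) + z • (C * s) + (z * z) • C := by
        rw [add_mul, mul_add, mul_add, sCCs, mul_smul_comm, sCC, smul_mul_assoc, CCs, smul_mul_smul_comm, hC]
        abel
      rw [hπ, hγ, hβ, mul_smul_comm, e0, mul_add, mul_add, mul_add, mul_smul_comm, mul_smul_comm, mul_smul_comm,
        ← mul_assoc s (s * C) s, ← mul_assoc s s C, hs, one_mul]
      congr 1
      abel
    have e2 : LinearMap.trace F V (s * (C * s)) = LinearMap.trace F V C := by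
      rw [LinearMap.trace_mul_comm, mul_assoc, hs, mul_one]
    have e3 : LinearMap.trace F V (C * s) = LinearMap.trace F V (s * C) := LinearMap.trace_mul_comm F C s
    rw [e1, map_smul, map_add, map_add, map_add, map_smul, map_smul, map_smul, e2, e3, t0]
    simp only [smul_eq_mul]
    ring
  have e5 : s * e = s * C + s * π := by rw [← Yeq, ← mul_add]; congr 1; abel
  rw [e5, map_add, t0, t1, ← mul_assoc, hk1, one_mul, neg_add_cancel]

namespace Full

variable {a b c h1 h2 h3 s t g g' : End F V} (K : Full a b c h1 h2 h3 s t g g')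

include K

/-- **a non-zero operator whose image is fixed by the stabiliser of a point** -/
theorem exists_fix (n2 : (2 : F) ≠ 0) (n3 : (3 : F) ≠ 0) (h12' : finrank F V = 12) (hne : a ≠ 1) (hne' : c ≠ 1) :
    ∃ W : End F V, W ≠ 0 ∧ a * W = W ∧ b * W = W ∧ c * W = W ∧ h1 * W = W ∧ h2 * W = W ∧ h3 * W = W ∧ s * W = W := by
  obtain ⟨c1, c2, c3, c4, c5⟩ := K.Cfacts n2 n3 h12' hne hne'
  obtain ⟨t1, t2, t3⟩ := K.traces n3
  have cQ := K.cQ n2 n3 h12' hne
  have Qc := K.Qc n2 n3 h12' hne
  have aQ' := K.aQ' n2 n3 h12' hne'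
  have Q'a := K.Q'a n2 n3 h12' hne'
  have e1 := e_eq (F := F) (a := a) (b := b) (c := c)
  have e1' := e'_eq (F := F) (a := a) (b := b) (c := c)
  have P := K.H.ab
  have P' := K.pcb
  set e := av F a * av F b with he
  set C' := C F a b c with hC'
  set Y := av F b - av F c * av F b with hY
  have ee : e * e = e := P.e_idem n3
  have eC : e * C' = C' := by rw [e1, add_mul, c1, c3, add_zero]
  have Ce : C' * e = C' := by rw [e1, mul_add, c1, c2, add_zero]
  have ae : a * e = e := by rw [he, ← mul_assoc, mul_av P.ha]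
  have be : b * e = e := by rw [he, P.e_comm, ← mul_assoc, mul_av P.hb]
  have cC : c * C' = C' := by
    have h : C' = av F c * av F b - (av F b - e) := by rw [e1']; abel
    have h' : c * (av F c * av F b) = av F c * av F b := by rw [← mul_assoc, mul_av P'.ha]
    rw [h, mul_sub, h', cQ]
  have KY : av F c * Y = 0 := by
    rw [hY, mul_sub, ← mul_assoc, av_idem n3 P'.ha, sub_self]
  have KC : av F c * C' = C' := av_fix_left n3 cC
  have Ke : av F c * e = C' := by rw [e1, mul_add, KC, KY, add_zero]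
  have se : s * e = e * s := K.H.s_e
  have CsC : C' * s * C' = av F c * (s * C') := by
    rw [← Ke, mul_assoc (av F c) e s, ← se, Ke, mul_assoc, mul_assoc, eC]
  have hC2 : C' * C' = C' := c1
  -- the torus is trivial on `C`
  have h1C' : h1 * C' = C' * h1 := by
    have k1 : h1 * e = e * h1 := K.H.h_e
    have k2 : h1 * av F c = av F c * h1 := av_comm K.h1c
    rw [← Ke, ← mul_assoc, k2, mul_assoc, k1, ← mul_assoc]
  have h2a' : h2 * av F a = av F a * h2 := by rw [av_conj K.h2a, av_sq P.ha]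
  have h2b' : h2 * av F b = av F b * h2 := av_comm K.h2b
  have h2c' : h2 * av F c = av F c * h2 := by rw [av_conj K.h2c, av_sq P'.ha]
  have h2C' : h2 * C' = C' * h2 := by
    have k1 : h2 * e = e * h2 := by rw [he, ← mul_assoc, h2a', mul_assoc, h2b', ← mul_assoc]
    rw [← Ke, ← mul_assoc, h2c', mul_assoc, k1, ← mul_assoc]
  obtain ⟨h1C, h2C⟩ := torus_trivial n2 c1 c4 K.H.hh K.h22 (K.h12.trans K.h21.symm) h1C' h2C' t1 (by rw [K.h12]; exact t2)
  have h3C : h3 * C' = C' := by rw [← K.h12, mul_assoc, h2C, h1C]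
  have W2 : (3 : F) • (av F c * (s * C')) = (1 + c + c * c) * (s * C') := by
    rw [← smul_mul_assoc, three_av n3]
  have k2 : av F c * (s * C') = e * (av F c * (s * C')) := by
    have k3 : e * av F c = av F c * e := av_comm K.H.c_e.symm
    have k4 : s * C' = e * (s * C') := by rw [← mul_assoc, ← se, mul_assoc, eC]
    rw [← mul_assoc e, k3, mul_assoc, ← k4]
  refine ⟨C' + (3 : F) • (av F c * (s * C')), ?_, ?_, ?_, ?_, ?_, ?_, ?_, ?_⟩
  · intro h0
    have h1 : av F c * (s * C') = -((3 : F)⁻¹ • C') := by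
      have h2 : (3 : F) • (av F c * (s * C')) = -C' := by
        rw [add_comm] at h0
        exact eq_neg_of_add_eq_zero_left h0
      have h4 : (3 : F)⁻¹ • ((3 : F) • (av F c * (s * C'))) = (3 : F)⁻¹ • (-C') := by rw [h2]
      rw [smul_smul, inv_mul_cancel₀ n3, one_smul] at h4
      rw [h4, smul_neg]
    have hY' : e - C' = Y := by rw [e1]; abel
    have hr : rk C' = rk (e - C') := by rw [hY', c4, c5]
    have tse := trace_se n2 n3 c1 ee eC Ce K.H.ss se hr (by rw [CsC, h1])
    have ge : g * e = e * g := by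
      rw [he, ← mul_assoc, K.ga, mul_assoc, K.gb, ← mul_assoc, P.m_n]
    have tr1 : LinearMap.trace F V (h2 * e) = LinearMap.trace F V (s * e) :=
      trace_conj' K.gg K.gg' (by rw [← mul_assoc, ← K.sg, mul_assoc, ge, ← mul_assoc])
    rw [tse, t3, h2C, trace_idem c1, c4] at tr1
    apply n2
    exact_mod_cast tr1
  · rw [mul_add, mul_smul_comm]
    have k1 : a * C' = C' := by rw [← eC, ← mul_assoc, ae]
    rw [k1, k2, ← mul_assoc, ae]
  · rw [mul_add, mul_smul_comm]
    have k1 : b * C' = C' := by rw [← eC, ← mul_assoc, be]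
    rw [k1, k2, ← mul_assoc, be]
  · rw [mul_add, mul_smul_comm, cC, ← mul_assoc, mul_av P'.ha]
  · rw [mul_add, mul_smul_comm, h1C, ← mul_assoc, av_comm K.h1c, mul_assoc, ← mul_assoc h1 s, ← K.sh1, mul_assoc s h1, h1C]
  · rw [mul_add, mul_smul_comm, h2C, ← mul_assoc, h2c', mul_assoc, ← mul_assoc h2 s, ← K.sh3, mul_assoc s h3, h3C]
  · have h3c' : h3 * av F c = av F c * h3 := by rw [av_conj K.H.kc, av_sq P'.ha]
    rw [mul_add, mul_smul_comm, h3C, ← mul_assoc, h3c', mul_assoc, ← mul_assoc h3 s, ← K.sh2, mul_assoc s h2, h2C]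
  · rw [W2]
    have ccC : c * c * C' = C' := by rw [mul_assoc, cC, cC]
    have k1 : s * c * s * C' = c * (s * C') := by
      rw [K.scs, mul_assoc, cC, mul_assoc, h2C, mul_assoc]
    have k2 : s * (c * c) * s * C' = c * c * (s * C') := by
      rw [K.sccs, mul_assoc (c * c * s * h3), ccC, mul_assoc (c * c * s), h3C, mul_assoc (c * c)]
    have k3 : s * (C' + (1 + c + c * c) * (s * C')) = s * C' + s * s * C' + s * c * s * C' + s * (c * c) * s * C' := by
      noncomm_ring
    rw [k3, k1, k2, K.H.ss]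
    noncomm_ring

end Full

end Cfsg.Agent.H915.Idem
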