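import Cfsg.Agent.H915.L33Sys
import Mathlib.LinearAlgebra.BilinearForm.Properties

/-!
# Modules of dimension 12 of `SL₃(3)`: the invariant form and the graph automorphism (helper915)
-/

set_option autoImplicit false
set_option linter.unusedSectionVars false

namespace Cfsg.Agent.H915.L33

open Module Matrix Cfsg.Agent.H915.Idem

variable {F : Type*} [Field F] {V : Type*} [AddCommGroup V] [Module F V] [FiniteDimensional F V]

/-- a vector fixed by the stabiliser of a point in an irreducible module of dimension 12 -/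
structure Data (ρ : G →* End F V) (w : V) : Prop where
  n2 : (2 : F) ≠ 0
  n3 : (3 : F) ≠ 0
  dim : finrank F V = 12
  hw : ∀ g : G, g.1 1 0 = 0 → g.1 2 0 = 0 → ρ g w = w
  w0 : w ≠ 0
  irr : ∀ W : Submodule F V, (∀ g : G, ∀ v ∈ W, ρ g v ∈ W) → W = ⊥ ∨ W = ⊤
  ne : ρ x12 ≠ 1

namespace Data

variable {ρ : G →* End F V} {w : V} (T : Data ρ w)

/-- the 13 vectors -/
noncomputable def u (_ : Data ρ w) (i : Fin 13) : V := vv ρ w (pt i)

theorem sys : Cfsg.Agent.H882.Del.Sys F T.u := L33.sys ρ w T.hw T.irr T.ne T.n2 T.dim T.w0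

theorem ext {Y : Type*} [AddCommGroup Y] [Module F Y] {f g : V →ₗ[F] Y} (h : ∀ i, f (T.u i) = g (T.u i)) : f = g :=
  T.sys.ext h

include T in
theorem n12 : (12 : F) ≠ 0 := by
  have : (12 : F) = 2 * 2 * 3 := by norm_num
  rw [this]
  exact mul_ne_zero (mul_ne_zero T.n2 T.n2) T.n3

variable {B : LinearMap.BilinForm F V} (hB : ∀ (g : G) (x y : V), B (ρ g x) (ρ g y) = B x y)

include T hB in
theorem B_ne {x y : X} (hx : x ≠ 0) (hy : y ≠ 0) (h1 : y ≠ x) (h2 : y ≠ -x) :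
    B (vv ρ w x) (vv ρ w y) = B (vv ρ w e1) (vv ρ w e2) := by
  obtain ⟨m, hm⟩ := exists_mk x hx
  obtain ⟨k, k1, k2⟩ := two_trans ((m⁻¹).1 *ᵥ y) (mulVec_ne _ hy) (by
    intro h
    apply h1
    have h3 := congrArg (fun z => m.1 *ᵥ z) h
    simp only [← mulVec_mul', mul_inv_cancel] at h3
    rw [← hm, ← h3]
    exact (Matrix.one_mulVec y).symm) (by
    intro h
    apply h2
    have h3 := congrArg (fun z => m.1 *ᵥ z) h
    simp only [← mulVec_mul', mul_inv_cancel, Matrix.mulVec_neg] at h3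
    rw [← hm, ← h3]
    exact (Matrix.one_mulVec y).symm)
  have e3 : x = (m * k).1 *ᵥ e1 := by rw [mulVec_mul', k1, hm]
  have e4 : y = (m * k).1 *ᵥ e2 := by
    rw [mulVec_mul', k2, ← mulVec_mul', mul_inv_cancel]
    exact (Matrix.one_mulVec y).symm
  rw [e3, e4, ← vv_smul ρ w T.hw, ← vv_smul ρ w T.hw, hB]

include T hB in
theorem B_eq {x : X} (hx : x ≠ 0) : B (vv ρ w x) (vv ρ w x) = B (vv ρ w e1) (vv ρ w e1) := by
  obtain ⟨m, hm⟩ := exists_mk x hx
  rw [← hm, ← vv_smul ρ w T.hw, hB]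

include hB in
/-- **the Gram matrix of the 13 vectors** -/
theorem gram : ∃ b : F, ∀ i j, B (T.u i) (T.u j) = b * (1 - 13 * if i = j then 1 else 0) := by
  have h1 : ∀ i j, i ≠ j → B (T.u i) (T.u j) = B (vv ρ w e1) (vv ρ w e2) := by
    intro i j hij
    exact T.B_ne hB (pt_ne i) (pt_ne j) (fun h => hij (pt_inj i j (Or.inl h.symm)))
      (fun h => hij (pt_inj j i (Or.inr h)).symm)
  have h2 : ∀ i, B (T.u i) (T.u i) = B (vv ρ w e1) (vv ρ w e1) := fun i => T.B_eq hB (pt_ne i)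
  have h3 : B (vv ρ w e1) (vv ρ w e1) + 12 * B (vv ρ w e1) (vv ρ w e2) = 0 := by
    have h4 : B (T.u 0) (∑ j, T.u j) = 0 := by rw [T.sys.sum, map_zero]
    rw [map_sum, Fin.sum_univ_succ, h2] at h4
    have h5 : ∑ i : Fin 12, B (T.u 0) (T.u i.succ) = 12 * B (vv ρ w e1) (vv ρ w e2) := by
      rw [Finset.sum_congr rfl (fun i _ => h1 0 i.succ (Fin.succ_ne_zero i).symm), Finset.sum_const, Finset.card_univ,
        Fintype.card_fin, nsmul_eq_mul]
      norm_num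
    rw [h5] at h4
    exact h4
  refine ⟨B (vv ρ w e1) (vv ρ w e2), fun i j => ?_⟩
  by_cases hij : i = j
  · subst hij
    rw [if_pos rfl, h2]
    linear_combination h3
  · rw [if_neg hij, h1 i j hij]
    ring

/-! ### the graph automorphism -/

variable {h : End F V} (hh : ∀ (g : G) (x : V), h (ρ g x) = ρ ((g⁻¹).transpose) (h x))
  (hiso : ∀ x y, B (h x) (h y) = B x y)

include T hB hh in
theorem f_move (g : G) (x y : X) : B (h (vv ρ w (g.1 *ᵥ x))) (vv ρ w y) = B (h (vv ρ w x)) (vv ρ w (g.1ᵀ *ᵥ y)) := by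
  rw [← vv_smul ρ w T.hw, hh]
  have h1 : vv ρ w y = ρ ((g⁻¹).transpose) (vv ρ w (g.1ᵀ *ᵥ y)) := by
    rw [vv_smul ρ w T.hw]
    congr 1
    have h2 : ((g⁻¹).transpose : G).1 *ᵥ (g.1ᵀ *ᵥ y) = y := by
      rw [Matrix.mulVec_mulVec]
      have h3 : ((g⁻¹).transpose : G).1 * g.1ᵀ = 1 := by
        change (g⁻¹).1ᵀ * g.1ᵀ = 1
        rw [← Matrix.transpose_mul]
        have h4 : g.1 * (g⁻¹).1 = 1 := congrArg Subtype.val (mul_inv_cancel g)
        rw [h4, Matrix.transpose_one]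
      rw [h3, Matrix.one_mulVec]
    exact h2.symm
  rw [h1, hB]

theorem dot_zero (x : X) (g : G) (h1 : g.1 *ᵥ e1 = x) (y : X) : x ⬝ᵥ y = (g.1ᵀ *ᵥ y) 0 := by
  rw [← h1]
  have h2 : (g.1 *ᵥ e1) ⬝ᵥ y = e1 ⬝ᵥ (g.1ᵀ *ᵥ y) := by
    rw [Matrix.dotProduct_mulVec, Matrix.vecMul_transpose]
  rw [h2]
  simp [dotProduct, Fin.sum_univ_three, e1]

include T hB hh in
theorem f_eq {x y : X} (hx : x ≠ 0) (hy : y ≠ 0) : B (h (vv ρ w x)) (vv ρ w y) =
    if x ⬝ᵥ y = 0 then B (h (vv ρ w e1)) (vv ρ w e2) else B (h (vv ρ w e1)) (vv ρ w e1) := by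
  obtain ⟨m, hm⟩ := exists_mk x hx
  rw [dot_zero x m hm y, ← hm, T.f_move hB hh]
  have hz : m.1ᵀ *ᵥ y ≠ 0 := by
    intro h1
    have h2 := mulVec_ne (m.transpose) hy
    exact h2 h1
  set z := m.1ᵀ *ᵥ y
  by_cases h0 : z 0 = 0
  · rw [if_pos h0]
    obtain ⟨k, k1, k2⟩ := perp_zero z hz h0
    rw [← k2, ← T.f_move hB hh, k1]
  · rw [if_neg h0]
    obtain ⟨k, k1, k2⟩ := perp_ne z h0
    rw [← k2, ← T.f_move hB hh]
    rcases k1 with k1 | k1
    · rw [k1]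
    · rw [k1, vv_neg ρ w T.hw]

end Data

end Cfsg.Agent.H915.L33
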