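import Cfsg.Agent.H915.L33Half

/-!
# Modules of dimension 12 of `SL₃(3)`: a vector fixed by the stabiliser of a point (helper915)
-/

set_option autoImplicit false
set_option linter.unusedSectionVars false

namespace Cfsg.Agent.H915.Idem

open Module

variable {F : Type*} [Field F] {V : Type*} [AddCommGroup V] [Module F V] [FiniteDimensional F V]

theorem av_fix_right (h3 : (3 : F) ≠ 0) {x g : End F V} (h : x * g = x) : x * av F g = x := by
  unfold av
  rw [mul_smul_comm, mul_add, mul_add, mul_one, ← mul_assoc, h, h]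
  have : x + x + x = (3 : F) • x := by module
  rw [this, smul_smul, inv_mul_cancel₀ h3, one_smul]

theorem av_fix_left (h3 : (3 : F) ≠ 0) {x g : End F V} (h : g * x = x) : av F g * x = x := by
  unfold av
  rw [smul_mul_assoc, add_mul, add_mul, one_mul, mul_assoc, h, h]
  have : x + x + x = (3 : F) • x := by module
  rw [this, smul_smul, inv_mul_cancel₀ h3, one_smul]

theorem tz (h3 : (3 : F) ≠ 0) {g h x e : End F V} (hg : g * g * g = 1) (hx : g * x = x * g) (he : g * e = e * g)
    (hh : h * g = g * g * h) (k1 : av F g * x = e) (k2 : av F g * e = e) :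
    LinearMap.trace F V (h * (x - e)) = 0 := by
  refine trace_zero h3 hg (by rw [mul_sub, sub_mul, hx, he]) (by rw [hh]) ?_
  rw [← three_av h3 g, smul_mul_assoc, mul_sub, k1, k2, sub_self, smul_zero]

theorem corner {R : Type*} [Ring R] {B Q P : R} (hB : B * B = B) (hQ : Q * Q = Q) (hP : P * P = P) (bQ : B * Q = Q)
    (Qb : Q * B = Q) (bP : B * P = P) (Pb : P * B = P) (o1 : Q * P = 0) (o2 : P * Q = 0) :
    (B - Q - P) * (B - Q - P) = B - Q - P ∧ (B - Q - P) * P = 0 ∧ P * (B - Q - P) = 0 := by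
  refine ⟨?_, ?_, ?_⟩
  · have e1 : (B - Q - P) * (B - Q - P) = B * B - B * Q - B * P - (Q * B - Q * Q - Q * P) - (P * B - P * Q - P * P) := by
      noncomm_ring
    rw [e1, hB, bQ, bP, Qb, hQ, o1, Pb, o2, hP]
    abel
  · rw [sub_mul, sub_mul, bP, o1, hP]
    abel
  · rw [mul_sub, mul_sub, Pb, o2, hP]
    abel

/-- all the relations -/
structure Full (a b c h1 h2 h3 s t g g' : End F V) : Prop where
  H : Half a b c h1 h3 s
  H' : Half c (b * b) a h3 h1 t
  h22 : h2 * h2 = 1
  h12 : h1 * h2 = h3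
  h21 : h2 * h1 = h3
  h2a : h2 * a = a * a * h2
  h2b : h2 * b = b * h2
  h2c : h2 * c = c * c * h2
  h1c : h1 * c = c * h1
  sh1 : s * h1 = h1 * s
  sh2 : s * h2 = h3 * s
  sh3 : s * h3 = h2 * s
  th1 : t * h1 = h2 * t
  gg : g' * g = 1
  gg' : g * g' = 1
  sg : s * g = g * h2
  ga : g * av F a = av F (a * b) * g
  gb : g * av F b = av F (a * (b * b)) * g
  scs : s * c * s = c * s * h2 * c
  sccs : s * (c * c) * s = c * c * s * h3 * (c * c)

namespace Full

variable {a b c h1 h2 h3 s t g g' : End F V} (K : Full a b c h1 h2 h3 s t g g')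

include K

/-- the pair `c, b` -/
theorem pcb : Pair c b := ⟨K.H.hc, K.H.ab.hb, K.H.cb⟩

theorem bbb : b * b * (b * b) = b := by rw [← mul_assoc, K.H.ab.hb, one_mul]

theorem avbb : av F (b * b) = av F b := av_sq K.H.ab.hb

variable (n2 : (2 : F) ≠ 0) (n3 : (3 : F) ≠ 0) (h12' : finrank F V = 12) (hne : a ≠ 1) (hne' : c ≠ 1)

theorem cQ (n2 : (2 : F) ≠ 0) (n3 : (3 : F) ≠ 0) (h12' : finrank F V = 12) (hne : a ≠ 1) :
    c * (av F b - av F a * av F b) = av F b - av F a * av F b := K.H.c_Q n2 n3 h12' hne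

theorem Qc (n2 : (2 : F) ≠ 0) (n3 : (3 : F) ≠ 0) (h12' : finrank F V = 12) (hne : a ≠ 1) :
    (av F b - av F a * av F b) * c = av F b - av F a * av F b := by
  rw [sub_mul, ← av_comm K.H.cb, ← K.H.c_e, ← mul_sub, K.cQ n2 n3 h12' hne]

theorem aQ' (n2 : (2 : F) ≠ 0) (n3 : (3 : F) ≠ 0) (h12' : finrank F V = 12) (hne' : c ≠ 1) :
    a * (av F b - av F c * av F b) = av F b - av F c * av F b := by
  have h := K.H'.c_Q n2 n3 h12' hne'
  rw [K.avbb] at h
  exact h

theorem Q'a (n2 : (2 : F) ≠ 0) (n3 : (3 : F) ≠ 0) (h12' : finrank F V = 12) (hne' : c ≠ 1) :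
    (av F b - av F c * av F b) * a = av F b - av F c * av F b := by
  have h := K.H'.c_e
  rw [K.avbb] at h
  rw [sub_mul, ← av_comm K.H.ab.hab, ← h, ← mul_sub, K.aQ' n2 n3 h12' hne']

/-- the projection onto the fixed vectors of the Sylow 3-subgroup -/
def C (F : Type*) [Field F] {V : Type*} [AddCommGroup V] [Module F V] (a b c : End F V) : End F V :=
  av F b - (av F b - av F a * av F b) - (av F b - av F c * av F b)

omit K in
theorem e_eq : av F a * av F b = C F a b c + (av F b - av F c * av F b) := by unfold C; abel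
omit K in
theorem e'_eq : av F c * av F b = C F a b c + (av F b - av F a * av F b) := by unfold C; abel

theorem QQ' (n2 : (2 : F) ≠ 0) (n3 : (3 : F) ≠ 0) (h12' : finrank F V = 12) (hne : a ≠ 1) :
    (av F b - av F a * av F b) * (av F b - av F c * av F b) = 0 := by
  have e1 : (av F b - av F a * av F b) * av F b = av F b - av F a * av F b := by
    rw [sub_mul, av_idem n3 K.H.ab.hb, K.H.ab.e_b n3]
  rw [mul_sub, ← mul_assoc, av_fix_right n3 (K.Qc n2 n3 h12' hne), e1, sub_self]

theorem Q'Q (n2 : (2 : F) ≠ 0) (n3 : (3 : F) ≠ 0) (h12' : finrank F V = 12) (hne' : c ≠ 1) :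
    (av F b - av F c * av F b) * (av F b - av F a * av F b) = 0 := by
  have e1 : (av F b - av F c * av F b) * av F b = av F b - av F c * av F b := by
    rw [sub_mul, av_idem n3 K.H.ab.hb, K.pcb.e_b n3]
  rw [mul_sub, ← mul_assoc, av_fix_right n3 (K.Q'a n2 n3 h12' hne'), e1, sub_self]

theorem Cfacts (n2 : (2 : F) ≠ 0) (n3 : (3 : F) ≠ 0) (h12' : finrank F V = 12) (hne : a ≠ 1) (hne' : c ≠ 1) :
    C F a b c * C F a b c = C F a b c ∧ C F a b c * (av F b - av F c * av F b) = 0 ∧
      (av F b - av F c * av F b) * C F a b c = 0 ∧ rk (C F a b c) = 2 ∧ rk (av F b - av F c * av F b) = 2 := by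
  have hQ := K.H.Qidem n3
  have hQ' := Pair.compl_idem (K.pcb.e_idem n3) (av_idem n3 K.H.ab.hb) (K.pcb.b_e n3) (K.pcb.e_b n3)
  have o1 := K.QQ' n2 n3 h12' hne
  have o2 := K.Q'Q n2 n3 h12' hne'
  have bQ : av F b * (av F b - av F a * av F b) = av F b - av F a * av F b := by
    rw [mul_sub, av_idem n3 K.H.ab.hb, K.H.ab.b_e n3]
  have Qb : (av F b - av F a * av F b) * av F b = av F b - av F a * av F b := by
    rw [sub_mul, av_idem n3 K.H.ab.hb, K.H.ab.e_b n3]
  have bQ' : av F b * (av F b - av F c * av F b) = av F b - av F c * av F b := by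
    rw [mul_sub, av_idem n3 K.H.ab.hb, K.pcb.b_e n3]
  have Q'b : (av F b - av F c * av F b) * av F b = av F b - av F c * av F b := by
    rw [sub_mul, av_idem n3 K.H.ab.hb, K.pcb.e_b n3]
  obtain ⟨r1, r2⟩ := K.H.ranks n2 n3 h12' hne
  obtain ⟨r3, r4⟩ := K.H'.ranks n2 n3 h12' hne'
  rw [K.avbb] at r3 r4
  have ee := e_eq (F := F) (a := a) (b := b) (c := c)
  have hCdef : C F a b c = av F b - (av F b - av F a * av F b) - (av F b - av F c * av F b) := rfl
  have hb2 := av_idem n3 K.H.ab.hb
  obtain ⟨c1, c2, c3⟩ := corner hb2 hQ hQ' bQ Qb bQ' Q'b o1 o2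
  rw [← hCdef] at c1 c2 c3
  refine ⟨c1, c2, c3, ?_, r4⟩
  have h := rk_add c1 hQ' c2 c3
  rw [← ee, r1, r4] at h
  omega

/-- traces of the torus on `C` -/
theorem traces (n3 : (3 : F) ≠ 0) :
    LinearMap.trace F V (h1 * C F a b c) = LinearMap.trace F V (h2 * C F a b c) ∧
    LinearMap.trace F V (h2 * C F a b c) = LinearMap.trace F V (h3 * C F a b c) ∧
    LinearMap.trace F V (h2 * (av F a * av F b)) = LinearMap.trace F V (h2 * C F a b c) := by
  have P := K.H.ab
  have P' := K.pcb
  -- commutations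
  have am : a * av F (a * b) = av F (a * b) * a := av_comm (by rw [mul_assoc a b a, ← P.hab])
  have an : a * av F (a * (b * b)) = av F (a * (b * b)) * a := av_comm (by rw [mul_assoc a (b * b) a, P.bb_a])
  have bm : b * av F (a * b) = av F (a * b) * b := av_comm (by rw [← mul_assoc, ← P.hab])
  have bn : b * av F (a * (b * b)) = av F (a * (b * b)) * b :=
    av_comm (by rw [← mul_assoc, ← P.hab, mul_assoc, mul_assoc, mul_assoc])
  have aa : a * av F a = av F a * a := av_comm rfl
  have ab : a * av F b = av F b * a := av_comm P.hab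
  have ba : b * av F a = av F a * b := av_comm P.hab.symm
  have bb : b * av F b = av F b * b := av_comm rfl
  have ae : a * (av F a * av F b) = (av F a * av F b) * a := by rw [← mul_assoc, aa, mul_assoc, ab, ← mul_assoc]
  have be : b * (av F a * av F b) = (av F a * av F b) * b := by rw [← mul_assoc, ba, mul_assoc, bb, ← mul_assoc]
  have cc : c * av F c = av F c * c := av_comm rfl
  have cb : c * av F b = av F b * c := av_comm P'.hab
  have bc : b * av F c = av F c * b := av_comm P'.hab.symm
  have ce' : c * (av F c * av F b) = (av F c * av F b) * c := by rw [← mul_assoc, cc, mul_assoc, cb, ← mul_assoc]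
  have be' : b * (av F c * av F b) = (av F c * av F b) * b := by rw [← mul_assoc, bc, mul_assoc, bb, ← mul_assoc]
  have cm' : c * av F (c * b) = av F (c * b) * c := av_comm (by rw [mul_assoc c b c, ← P'.hab])
  have cn' : c * av F (c * (b * b)) = av F (c * (b * b)) * c := av_comm (by rw [mul_assoc c (b * b) c, P'.bb_a])
  -- h1
  have t1 : LinearMap.trace F V h1 = LinearMap.trace F V (h1 * (av F a * av F b)) := by
    rw [P.trace n3 h1, tz n3 P.hb ba be K.H.hb P.e_comm.symm (P.b_e n3), tz n3 P.ha ab ae K.H.ha rfl (P.a_e n3),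
      tz n3 P.hb bm be K.H.hb P.b_m (P.b_e n3), tz n3 P.hb bn be K.H.hb P.b_n (P.b_e n3)]
    simp only [add_zero]
  have t2 : LinearMap.trace F V h2 = LinearMap.trace F V (h2 * (av F a * av F b)) +
      LinearMap.trace F V (h2 * (av F a - av F a * av F b)) := by
    rw [P.trace n3 h2, tz n3 P.ha ab ae K.h2a rfl (P.a_e n3), tz n3 P.ha am ae K.h2a P.a_m (P.a_e n3),
      tz n3 P.ha an ae K.h2a P.a_n (P.a_e n3)]
    simp only [add_zero]
  have t3 : LinearMap.trace F V h3 = LinearMap.trace F V (h3 * (av F a * av F b)) +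
      LinearMap.trace F V (h3 * (av F b - av F a * av F b)) := by
    rw [P.trace n3 h3, tz n3 P.hb ba be K.H.kb P.e_comm.symm (P.b_e n3),
      tz n3 P.hb bm be K.H.kb P.b_m (P.b_e n3), tz n3 P.hb bn be K.H.kb P.b_n (P.b_e n3)]
    simp only [add_zero]
  have t2' : LinearMap.trace F V h2 = LinearMap.trace F V (h2 * (av F c * av F b)) +
      LinearMap.trace F V (h2 * (av F c - av F c * av F b)) := by
    rw [P'.trace n3 h2, tz n3 P'.ha cb ce' K.h2c rfl (P'.a_e n3), tz n3 P'.ha cm' ce' K.h2c P'.a_m (P'.a_e n3),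
      tz n3 P'.ha cn' ce' K.h2c P'.a_n (P'.a_e n3)]
    simp only [add_zero]
  have z2 : LinearMap.trace F V (h2 * (av F b - av F c * av F b)) = 0 := tz n3 P'.ha cb ce' K.h2c rfl (P'.a_e n3)
  have z3 : LinearMap.trace F V (h3 * (av F b - av F c * av F b)) = 0 := tz n3 P'.ha cb ce' K.H.kc rfl (P'.a_e n3)
  have z2' : LinearMap.trace F V (h2 * (av F b - av F a * av F b)) = 0 := tz n3 P.ha ab ae K.h2a rfl (P.a_e n3)
  have e := e_eq (F := F) (a := a) (b := b) (c := c)
  have e' := e'_eq (F := F) (a := a) (b := b) (c := c)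
  have u1 : LinearMap.trace F V (h1 * (av F a * av F b)) =
      LinearMap.trace F V (h1 * C F a b c) + LinearMap.trace F V (h1 * (av F b - av F c * av F b)) := by
    rw [← map_add, ← mul_add, ← e]
  have u2 : LinearMap.trace F V (h2 * (av F a * av F b)) = LinearMap.trace F V (h2 * C F a b c) := by
    rw [e, mul_add, map_add, z2, add_zero]
  have u3 : LinearMap.trace F V (h3 * (av F a * av F b)) = LinearMap.trace F V (h3 * C F a b c) := by
    rw [e, mul_add, map_add, z3, add_zero]
  have u2' : LinearMap.trace F V (h2 * (av F c * av F b)) = LinearMap.trace F V (h2 * C F a b c) := by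
    rw [e', mul_add, map_add, z2', add_zero]
  have s1 : LinearMap.trace F V h2 = LinearMap.trace F V h3 := trace_conj' K.H.ss K.H.ss K.sh2
  have s2 : LinearMap.trace F V (h2 * (av F a - av F a * av F b)) =
      LinearMap.trace F V (h3 * (av F b - av F a * av F b)) :=
    trace_conj' K.H.ss K.H.ss (by
      rw [← mul_assoc, K.sh2, mul_assoc, mul_assoc, mul_sub, sub_mul, K.H.sa, K.H.s_e])
  have s3 : LinearMap.trace F V h1 = LinearMap.trace F V h2 := trace_conj' K.H'.ss K.H'.ss K.th1
  have tb : t * av F b = av F c * t := by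
    have h := K.H'.sb
    rw [K.avbb] at h
    exact h
  have te : t * (av F c * av F b) = (av F c * av F b) * t := by
    have h := K.H'.s_e
    rw [K.avbb] at h
    exact h
  have s4 : LinearMap.trace F V (h1 * (av F b - av F c * av F b)) =
      LinearMap.trace F V (h2 * (av F c - av F c * av F b)) :=
    trace_conj' K.H'.ss K.H'.ss (by
      rw [← mul_assoc, K.th1, mul_assoc, mul_assoc, mul_sub, sub_mul, tb, te])
  refine ⟨?_, ?_, u2⟩
  · -- c1 = c2
    have : LinearMap.trace F V (h1 * C F a b c) + LinearMap.trace F V (h1 * (av F b - av F c * av F b)) =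
        LinearMap.trace F V (h2 * C F a b c) + LinearMap.trace F V (h2 * (av F c - av F c * av F b)) := by
      rw [← u1, ← t1, s3, t2', u2']
    rw [s4] at this
    exact add_right_cancel this
  · have : LinearMap.trace F V (h2 * C F a b c) + LinearMap.trace F V (h2 * (av F a - av F a * av F b)) =
        LinearMap.trace F V (h3 * C F a b c) + LinearMap.trace F V (h3 * (av F b - av F a * av F b)) := by
      rw [← u2, ← t2, s1, t3, u3]
    rw [s2] at this
    exact add_right_cancel this

end Full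

end Cfsg.Agent.H915.Idem
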