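import Cfsg.Agent.H915.L33Rel

/-!
# `SL₃(3)`: generation of the stabiliser of a point (helper915)
-/

set_option autoImplicit false
set_option linter.unusedSectionVars false

namespace Cfsg.Agent.H915.L33

open Matrix

def u12 (t : ZMod 3) : G := ⟨X12 t, by revert t; decide⟩
def u13 (t : ZMod 3) : G := ⟨X13 t, by revert t; decide⟩
def u23 (t : ZMod 3) : G := ⟨X23 t, by revert t; decide⟩

theorem u12_mem {K : Subgroup G} (h : x12 ∈ K) (t : ZMod 3) : u12 t ∈ K := by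
  have key : ∀ t : ZMod 3, (u12 t).1 = 1 ∨ (u12 t).1 = x12.1 ∨ (u12 t).1 = (x12 * x12).1 := by decide
  rcases key t with h1 | h1 | h1
  · have h2 : u12 t = 1 := Subtype.ext h1
    rw [h2]; exact K.one_mem
  · have h2 : u12 t = x12 := Subtype.ext h1
    rw [h2]; exact h
  · have h2 : u12 t = x12 * x12 := Subtype.ext h1
    rw [h2]; exact K.mul_mem h h

theorem u13_mem {K : Subgroup G} (h : x13 ∈ K) (t : ZMod 3) : u13 t ∈ K := by
  have key : ∀ t : ZMod 3, (u13 t).1 = 1 ∨ (u13 t).1 = x13.1 ∨ (u13 t).1 = (x13 * x13).1 := by decide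
  rcases key t with h1 | h1 | h1
  · have h2 : u13 t = 1 := Subtype.ext h1
    rw [h2]; exact K.one_mem
  · have h2 : u13 t = x13 := Subtype.ext h1
    rw [h2]; exact h
  · have h2 : u13 t = x13 * x13 := Subtype.ext h1
    rw [h2]; exact K.mul_mem h h

theorem u23_mem {K : Subgroup G} (h : x23 ∈ K) (t : ZMod 3) : u23 t ∈ K := by
  have key : ∀ t : ZMod 3, (u23 t).1 = 1 ∨ (u23 t).1 = x23.1 ∨ (u23 t).1 = (x23 * x23).1 := by decide
  rcases key t with h1 | h1 | h1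
  · have h2 : u23 t = 1 := Subtype.ext h1
    rw [h2]; exact K.one_mem
  · have h2 : u23 t = x23 := Subtype.ext h1
    rw [h2]; exact h
  · have h2 : u23 t = x23 * x23 := Subtype.ext h1
    rw [h2]; exact K.mul_mem h h

theorem torus_mem {K : Subgroup G} (k1 : h1 ∈ K) (k2 : h2 ∈ K) (k3 : h3 ∈ K) (g : G) {p q r : ZMod 3}
    (hg : g.1 = D p q r) : g ∈ K := by
  have key : ∀ p q r : ZMod 3, (D p q r).det = 1 → D p q r = 1 ∨ D p q r = h1.1 ∨ D p q r = h2.1 ∨ D p q r = h3.1 := by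
    decide
  have hdet : (D p q r).det = 1 := by rw [← hg]; exact g.2
  rcases key p q r hdet with h | h | h | h
  · have : g = 1 := Subtype.ext (hg.trans h)
    rw [this]; exact K.one_mem
  · have : g = h1 := Subtype.ext (hg.trans h)
    rw [this]; exact k1
  · have : g = h2 := Subtype.ext (hg.trans h)
    rw [this]; exact k2
  · have : g = h3 := Subtype.ext (hg.trans h)
    rw [this]; exact k3

theorem upper_mem {K : Subgroup G} (ka : x12 ∈ K) (kb : x13 ∈ K) (kc : x23 ∈ K) (k1 : h1 ∈ K) (k2 : h2 ∈ K)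
    (k3 : h3 ∈ K) (g : G) (h10 : g.1 1 0 = 0) (h20 : g.1 2 0 = 0) (h21 : g.1 2 1 = 0) : g ∈ K := by
  have he : g.1 = !![g.1 0 0, g.1 0 1, g.1 0 2; 0, g.1 1 1, g.1 1 2; 0, 0, g.1 2 2] := by
    have h := Matrix.eta_fin_three g.1
    rw [h10, h20, h21] at h
    exact h
  have hd : g.1 0 0 * g.1 1 1 * g.1 2 2 = 1 := by
    have h := g.2
    rw [Matrix.det_fin_three, h10, h20, h21] at h
    linear_combination h
  have hw := upper _ (g.1 0 1) (g.1 0 2) _ (g.1 1 2) _ hd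
  rw [← he] at hw
  have key : g = u23 (g.1 1 2 * g.1 2 2) * (u12 (g.1 0 1 * g.1 1 1) * (u13 (g.1 0 2 * g.1 2 2) *
      ⟨D (g.1 0 0) (g.1 1 1) (g.1 2 2), by
        unfold D
        rw [Matrix.det_fin_three]
        simp
        exact hd⟩)) := Subtype.ext hw
  rw [key]
  refine K.mul_mem (u23_mem kc _) (K.mul_mem (u12_mem ka _) (K.mul_mem (u13_mem kb _) ?_))
  exact torus_mem k1 k2 k3 _ rfl

theorem cancel {A A' B B' X Y : Matrix (Fin 3) (Fin 3) (ZMod 3)} (hA : A' * A = 1) (hB : B' * B = 1)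
    (h : A * (B * X) = A * (B * Y)) : X = Y := by
  have h1 := congrArg (fun M => B' * (A' * M)) h
  rw [← Matrix.mul_assoc A', hA, Matrix.one_mul, ← Matrix.mul_assoc A', hA, Matrix.one_mul, ← Matrix.mul_assoc B', hB,
    Matrix.one_mul, ← Matrix.mul_assoc B', hB, Matrix.one_mul] at h1
  exact h1

theorem point_mem {K : Subgroup G} (ka : x12 ∈ K) (kb : x13 ∈ K) (kc : x23 ∈ K) (k1 : h1 ∈ K) (k2 : h2 ∈ K)
    (k3 : h3 ∈ K) (ks : s23 ∈ K) (g : G) (h10 : g.1 1 0 = 0) (h20 : g.1 2 0 = 0) : g ∈ K := by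
  by_cases h21 : g.1 2 1 = 0
  · exact upper_mem ka kb kc k1 k2 k3 g h10 h20 h21
  have he : g.1 = !![g.1 0 0, g.1 0 1, g.1 0 2; 0, g.1 1 1, g.1 1 2; 0, g.1 2 1, g.1 2 2] := by
    have h := Matrix.eta_fin_three g.1
    rw [h10, h20] at h
    exact h
  have hd : g.1 0 0 * (g.1 1 1 * g.1 2 2 - g.1 1 2 * g.1 2 1) = 1 := by
    have h := g.2
    rw [Matrix.det_fin_three, h10, h20] at h
    linear_combination h
  obtain ⟨a, b, t1, t2, hw⟩ := lower _ (g.1 0 1) (g.1 0 2) _ _ _ _ hd h21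
  rw [← he] at hw
  set t := g.1 1 1 * g.1 2 1
  have hU : (s23⁻¹ * (u23 t)⁻¹ * g).1 = !![2 * g.1 0 0, a, b; 0, t1, t2; 0, 0, (2 * g.1 0 0 * t1)] := by
    have e1 : u23 t * (s23 * (s23⁻¹ * (u23 t)⁻¹ * g)) = g := by group
    have e2 : (u23 t).1 * (s23.1 * (s23⁻¹ * (u23 t)⁻¹ * g).1) =
        X23 t * (S * !![2 * g.1 0 0, a, b; 0, t1, t2; 0, 0, (2 * g.1 0 0 * t1)]) := by
      rw [← hw]
      exact congrArg Subtype.val e1
    have e3 : (u23 t)⁻¹.1 * (u23 t).1 = 1 := congrArg Subtype.val (inv_mul_cancel (u23 t))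
    have e4 : (s23)⁻¹.1 * (s23).1 = 1 := congrArg Subtype.val (inv_mul_cancel s23)
    exact cancel e3 e4 e2
  have hm : s23⁻¹ * (u23 t)⁻¹ * g ∈ K := by
    apply upper_mem ka kb kc k1 k2 k3
    · rw [hU]; rfl
    · rw [hU]; rfl
    · rw [hU]; rfl
  have e1 : g = u23 t * (s23 * (s23⁻¹ * (u23 t)⁻¹ * g)) := by group
  rw [e1]
  exact K.mul_mem (u23_mem kc t) (K.mul_mem ks hm)

end Cfsg.Agent.H915.L33
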