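import Cfsg.Agent.H915.Avg3

/-!
# Modules of dimension 12: the radical `3²` of a parabolic subgroup of `SL₃(3)` (helper915)
-/

set_option autoImplicit false
set_option linter.unusedSectionVars false

namespace Cfsg.Agent.H915.Idem

open Module

variable {F : Type*} [Field F] {V : Type*} [AddCommGroup V] [Module F V] [FiniteDimensional F V]

/-- relations of one half: `a = x₁₂`, `b = x₁₃`, `c = x₂₃`, `h = h₁` inverts `a`, `b`, `k = h₃` centralises `a` and inverts
`b`, `c`, and `s` interchanges `⟨a⟩` and `⟨b⟩`. -/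
structure Half (a b c h k s : End F V) : Prop where
  ab : Pair a b
  hc : c * c * c = 1
  cb : c * b = b * c
  ac : a * c = c * a * b
  hh : h * h = 1
  kk : k * k = 1
  ha : h * a = a * a * h
  hb : h * b = b * b * h
  ka : k * a = a * k
  kb : k * b = b * b * k
  kc : k * c = c * c * k
  ss : s * s = 1
  sa : s * av F a = av F b * s
  sb : s * av F b = av F a * s

namespace Half

variable {a b c h k s : End F V} (H : Half a b c h k s)

include H

theorem ca : c * a = a * (b * b) * c := by
  have e1 : c * a = c * a * b * (b * b) := by rw [mul_assoc (c * a) b, ← mul_assoc b b b, H.ab.hb, mul_one]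
  rw [e1, ← H.ac, mul_assoc a c, ← mul_assoc c b b, H.cb, mul_assoc b c b, H.cb, ← mul_assoc b b c, ← mul_assoc]

theorem cn : c * (a * (b * b)) = a * b * c := by
  have e1 : c * (b * b) = b * b * c := by rw [← mul_assoc, H.cb, mul_assoc, H.cb, ← mul_assoc]
  rw [← mul_assoc, H.ca, mul_assoc _ c, e1]
  have e2 : a * (b * b) * (b * b * c) = a * (b * b * b) * b * c := by simp only [mul_assoc]
  rw [e2, H.ab.hb, mul_one]

theorem c_e : c * (av F a * av F b) = (av F a * av F b) * c := by
  rw [← mul_assoc, av_conj H.ca, mul_assoc, av_comm H.cb, ← mul_assoc, H.ab.n_b]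

theorem h_a : h * av F a = av F a * h := by rw [av_conj H.ha, av_sq H.ab.ha]
theorem h_b : h * av F b = av F b * h := by rw [av_conj H.hb, av_sq H.ab.hb]
theorem k_b : k * av F b = av F b * k := by rw [av_conj H.kb, av_sq H.ab.hb]
theorem k_a : k * av F a = av F a * k := av_comm H.ka

theorem h_e : h * (av F a * av F b) = (av F a * av F b) * h := by
  rw [← mul_assoc, H.h_a, mul_assoc, H.h_b, ← mul_assoc]
theorem k_e : k * (av F a * av F b) = (av F a * av F b) * k := by
  rw [← mul_assoc, H.k_a, mul_assoc, H.k_b, ← mul_assoc]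
theorem s_e : s * (av F a * av F b) = (av F a * av F b) * s := by
  rw [← mul_assoc, H.sa, mul_assoc, H.sb, ← mul_assoc, H.ab.e_comm]

/-- ranks of the four complements agree -/
theorem rk_eq : rk (av F a - av F a * av F b) = rk (av F b - av F a * av F b) ∧
    rk (av F (a * b) - av F a * av F b) = rk (av F b - av F a * av F b) ∧
    rk (av F (a * (b * b)) - av F a * av F b) = rk (av F b - av F a * av F b) := by
  have hcc : (c * c) * c = 1 := H.hc
  have hcc' : c * (c * c) = 1 := by rw [← mul_assoc]; exact H.hc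
  have k1 : rk (av F a - av F a * av F b) = rk (av F b - av F a * av F b) :=
    rk_conj H.ss H.ss (by rw [mul_sub, sub_mul, H.sa, H.s_e])
  have k2 : rk (av F a - av F a * av F b) = rk (av F (a * (b * b)) - av F a * av F b) :=
    rk_conj hcc hcc' (by rw [mul_sub, sub_mul, av_conj H.ca, H.c_e])
  have k3 : rk (av F (a * (b * b)) - av F a * av F b) = rk (av F (a * b) - av F a * av F b) :=
    rk_conj hcc hcc' (by rw [mul_sub, sub_mul, av_conj H.cn, H.c_e])
  exact ⟨k1, by rw [← k3, ← k2, k1], by rw [← k2, k1]⟩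

theorem Qidem (h3 : (3 : F) ≠ 0) : (av F b - av F a * av F b) * (av F b - av F a * av F b) = av F b - av F a * av F b :=
  Pair.compl_idem (H.ab.e_idem h3) (av_idem h3 H.ab.hb) (H.ab.b_e h3) (H.ab.e_b h3)

theorem a_Q : a * (av F b - av F a * av F b) = (av F b - av F a * av F b) * a := by
  rw [mul_sub, sub_mul, av_comm H.ab.hab, ← mul_assoc, mul_av H.ab.ha, mul_assoc (av F a), ← av_comm H.ab.hab, ← mul_assoc,
    av_mul H.ab.ha]

theorem b_Q : b * (av F b - av F a * av F b) = av F b - av F a * av F b := by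
  rw [mul_sub, mul_av H.ab.hb, H.ab.e_comm, ← mul_assoc, mul_av H.ab.hb]

theorem sum_Q (h3 : (3 : F) ≠ 0) : (1 + a + a * a) * (av F b - av F a * av F b) = 0 := by
  have e1 : av F b - av F a * av F b = (1 - av F a) * av F b := by rw [sub_mul, one_mul]
  rw [e1, ← mul_assoc, sum_mul_compl h3 H.ab.ha, zero_mul]

theorem even (h2 : (2 : F) ≠ 0) (h3 : (3 : F) ≠ 0) : Even (rk (av F b - av F a * av F b)) := by
  have hQ : h * (av F b - av F a * av F b) = (av F b - av F a * av F b) * h := by
    rw [mul_sub, sub_mul, H.h_b, H.h_e]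
  exact rk_even h2 h3 (H.Qidem h3) H.ab.ha H.a_Q H.hh hQ hQ (by rw [H.ha]) (H.sum_Q h3)

/-- **ranks** -/
theorem ranks (h2 : (2 : F) ≠ 0) (h3 : (3 : F) ≠ 0) (h12 : finrank F V = 12) (hne : a ≠ 1) :
    rk (av F a * av F b) = 4 ∧ rk (av F b - av F a * av F b) = 2 := by
  have k1 := H.ab.rk h3
  obtain ⟨e1, e2, e3⟩ := H.rk_eq
  rw [e1, e2, e3, h12] at k1
  obtain ⟨m, hm⟩ := H.even h2 h3
  rw [hm] at k1
  have hm1 : m ≤ 1 := by omega
  interval_cases m
  · exfalso
    have z := eq_zero_of_rk (e := av F b - av F a * av F b) (by rw [hm])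
    have za := eq_zero_of_rk (e := av F a - av F a * av F b) (by rw [e1, hm])
    have zm := eq_zero_of_rk (e := av F (a * b) - av F a * av F b) (by rw [e2, hm])
    have zn := eq_zero_of_rk (e := av F (a * (b * b)) - av F a * av F b) (by rw [e3, hm])
    have hs := H.ab.sum h3
    rw [z, za, zm, zn, add_zero, add_zero, add_zero, add_zero] at hs
    apply hne
    have e4 : a * (av F a * av F b) = av F a * av F b := by rw [← mul_assoc, mul_av H.ab.ha]
    rw [← hs, mul_one] at e4
    exact e4
  · exact ⟨by omega, by omega⟩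

/-- `c` acts trivially on the range of `Q` -/
theorem c_Q (h2 : (2 : F) ≠ 0) (h3 : (3 : F) ≠ 0) (h12 : finrank F V = 12) (hne : a ≠ 1) :
    c * (av F b - av F a * av F b) = av F b - av F a * av F b := by
  obtain ⟨-, hr⟩ := H.ranks h2 h3 h12 hne
  have hQi := H.Qidem h3
  have haQ := H.a_Q
  have hbQ := H.b_Q
  have hsQ := H.sum_Q h3
  have hcQ : c * (av F b - av F a * av F b) = (av F b - av F a * av F b) * c := by
    rw [mul_sub, sub_mul, av_comm H.cb, H.c_e]
  have hkQ : k * (av F b - av F a * av F b) = (av F b - av F a * av F b) * k := by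
    rw [mul_sub, sub_mul, H.k_b, H.k_e]
  have hhQ : h * (av F b - av F a * av F b) = (av F b - av F a * av F b) * h := by
    rw [mul_sub, sub_mul, H.h_b, H.h_e]
  set Q := av F b - av F a * av F b with hQdef
  have hQ0 : Q ≠ 0 := by
    intro h0
    rw [h0, rk_zero] at hr
    exact absurd hr (by norm_num)
  have hns : ¬ ∃ x : F, a * Q = x • Q := by
    rintro ⟨x, hx⟩
    -- h a Q = a a h Q
    have e1 : h * a * Q = a * a * h * Q := by rw [H.ha]
    have e2 : h * a * Q = x • (h * Q) := by rw [mul_assoc, hx, mul_smul_comm]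
    have e3 : a * a * h * Q = (x * x) • (h * Q) := by
      rw [mul_assoc (a * a), hhQ, ← mul_assoc, mul_assoc a a Q, hx, mul_smul_comm, hx, smul_smul, smul_mul_assoc, ← hhQ]
    rw [e2, e3] at e1
    have e4 : x • Q = (x * x) • Q := by
      have e5 := congrArg (fun y => h * y) e1
      simp only [mul_smul_comm, ← mul_assoc, H.hh, one_mul] at e5
      exact e5
    have e5 : (x - x * x) • Q = 0 := by rw [sub_smul, e4, sub_self]
    have e6 : x - x * x = 0 := (smul_eq_zero.1 e5).resolve_right hQ0
    have e7 : (1 + x + x * x) • Q = 0 := by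
      have e8 : (1 + a + a * a) * Q = (1 + x + x * x) • Q := by
        rw [add_mul, add_mul, one_mul, hx, mul_assoc, hx, mul_smul_comm, hx, smul_smul, add_smul, add_smul, one_smul]
      rw [← e8, hsQ]
    have e8 : 1 + x + x * x = 0 := (smul_eq_zero.1 e7).resolve_right hQ0
    have e9 : x * (1 - x) = 0 := by linear_combination e6
    rcases mul_eq_zero.1 e9 with h0 | h0
    · rw [h0] at e8
      norm_num at e8
    · have : x = 1 := by linear_combination -h0
      rw [this] at e8
      apply h3
      linear_combination e8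
  have e1 : c * k * Q = k * c * Q := by
    refine comm_of_rk_two hQi hr haQ hcQ hkQ ?_ ?_ hns
    · rw [H.ac, mul_assoc (c * a) b Q, hbQ]
    · rw [← H.ka]
  have e2 : k * c * Q = c * c * k * Q := by rw [H.kc]
  rw [e2] at e1
  -- c k Q = c c k Q
  have e3 : k * Q = c * k * Q := by
    have e4 := congrArg (fun y => c * c * y) e1
    simp only [← mul_assoc] at e4
    rw [H.hc, one_mul, one_mul] at e4
    exact e4
  have e4 : Q * k = c * Q * k := by rw [← hkQ, e3, mul_assoc c k Q, hkQ, ← mul_assoc]
  have e5 := congrArg (fun y => y * k) e4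
  simp only [mul_assoc, H.kk, mul_one] at e5
  exact e5.symm

end Half

end Cfsg.Agent.H915.Idem
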