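import Cfsg.Agent.H915.L33Omega

/-!
# `L₃(3)` in `Ω₁₂(p)`, II (helper915)
-/

set_option autoImplicit false
set_option linter.unusedSectionVars false

namespace Cfsg.Agent.H915.L33

open Cfsg Cfsg.Geo Matrix Module Cfsg.Agent.H915.LD
open Cfsg.Agent.ClassicalGeometry.AutPSL.Auto
open Cfsg.Agent.LieClassical.OrthCore

universe u

theorem Data.thirteen {F : Type*} [Field F] {V : Type*} [AddCommGroup V] [Module F V] [FiniteDimensional F V]
    {ρ : G →* End F V} {w : V} (T : Data ρ w) : (13 : F) ≠ 0 := by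
  intro h13
  obtain ⟨f, hf⟩ := T.sys.exists_map (fun _ : Fin 13 => (1 : F)) (by
    rw [Finset.sum_const, Finset.card_univ, Fintype.card_fin, nsmul_eq_mul]
    push_cast
    rw [h13, zero_mul])
  have hg : ∀ g : G, ∀ v : V, f (ρ g v) = f v := by
    intro g v
    have h1 : f ∘ₗ (ρ g : V →ₗ[F] V) = f := T.ext (fun i => by
      rw [LinearMap.comp_apply, hf]
      change f (ρ g (vv ρ w (pt i))) = 1
      rw [vv_smul ρ w T.hw]
      obtain ⟨j, h | h⟩ := pt_surj _ (mulVec_ne g (pt_ne i))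
      · rw [h]; exact hf j
      · rw [h, vv_neg ρ w T.hw]; exact hf j)
    exact LinearMap.congr_fun h1 v
  rcases T.irr (LinearMap.ker f) (fun g v hv => by
    rw [LinearMap.mem_ker] at hv ⊢
    rw [hg, hv]) with h | h
  · have h1 := LinearMap.finrank_range_add_finrank_ker f
    rw [h, finrank_bot, T.dim] at h1
    have h2 : finrank F (LinearMap.range f) ≤ 1 := by
      have := Submodule.finrank_le (LinearMap.range f)
      rwa [finrank_self] at this
    omega
  · have h1 : T.u 0 ∈ LinearMap.ker f := by rw [h]; trivial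
    rw [LinearMap.mem_ker, hf] at h1
    exact one_ne_zero h1

variable {ι : Type} [Fintype ι] [DecidableEq ι] {F : Type u} [Field F] [Fintype F]

theorem exists_graph (h2 : (2 : F) ≠ 0) {Q : QuadraticForm F (ι → F)} (hQ : Nondeg Q) (hι : Fintype.card ι = 12)
    {H P : Subgroup (GL ι F)} (hH : IsMaximalIn (omegaGL (Q : (ι → F) → F)) H) (hPc : IsResidualCore H P)
    (θ : G ≃* P) {w : ι → F} (T : Data (rep θ) w) (e : Soc P ≃* T33) :
    ∃ h ∈ H, ∀ x : G, h * (θ x : GL ι F) * h⁻¹ = (θ (itr x) : GL ι F) := by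
  by_contra hno
  push Not at hno
  have hmain := Cfsg.Agent.H882.Del.mat_main (v0 := w) (K := KG.map θ.toMonoidHom) h2 hQ (by omega) hH hPc
    (by rw [hι]; exact (Subgroup.index_map_equiv KG θ).trans KG_index) T.w0 (by
      rintro _ ⟨g, hg, rfl⟩
      obtain ⟨h10, h20⟩ := first_col g hg
      exact T.hw g h10 h20) (by
      intro g hg g' hg'
      obtain ⟨g, rfl⟩ := θ.surjective g
      obtain ⟨g', rfl⟩ := θ.surjective g'
      have hm : ∀ x : G, θ x ∈ KG.map θ.toMonoidHom ↔ x ∈ KG := fun x => Subgroup.mem_map_iff_mem θ.injective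
      rw [hm] at hg hg'
      obtain ⟨k, hk, k', hk', e⟩ := KG_dc hg hg'
      exact ⟨θ k, (hm k).2 hk, θ k', (hm k').2 hk', by rw [e, map_mul, map_mul]⟩) (by
      intro h hh
      let α : MulAut G := (θ.trans (Cfsg.Agent.H882.Del.cjA h (hPc.normal h hh) (hPc.normal h⁻¹ (inv_mem hh)))).trans θ.symm
      have hα : ∀ x : G, ((θ (α x) : P) : GL ι F) = h * (θ x : GL ι F) * h⁻¹ := by
        intro x
        change ((θ (θ.symm _) : P) : GL ι F) = _
        rw [MulEquiv.apply_symm_apply]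
        rfl
      rcases aut_cases α with ⟨g, hg⟩ | ⟨g, hg⟩
      · have hk : ((θ g : P) : GL ι F)⁻¹ * h ∈ H := H.mul_mem (H.inv_mem (hPc.le (θ g).2)) hh
        have hsc := hPc.centralizer_scalar _ hk (by
          intro x hx
          obtain ⟨y, hy⟩ := θ.surjective ⟨x, hx⟩
          have hy' : ((θ y : P) : GL ι F) = x := by rw [hy]
          have h3 := hα y
          rw [hg, map_mul, map_mul, map_inv] at h3
          rw [← hy']
          have h4 : ((θ g : P) : GL ι F)⁻¹ * h * (θ y : GL ι F) * (((θ g : P) : GL ι F)⁻¹ * h)⁻¹ * (θ y : GL ι F)⁻¹ = 1 := by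
            have h5 : h * (θ y : GL ι F) * h⁻¹ = (θ g : GL ι F) * (θ y : GL ι F) * (θ g : GL ι F)⁻¹ := h3.symm
            calc ((θ g : P) : GL ι F)⁻¹ * h * (θ y : GL ι F) * (((θ g : P) : GL ι F)⁻¹ * h)⁻¹ * (θ y : GL ι F)⁻¹
                = ((θ g : P) : GL ι F)⁻¹ * (h * (θ y : GL ι F) * h⁻¹) * (θ g : GL ι F) * (θ y : GL ι F)⁻¹ := by group
              _ = 1 := by rw [h5]; group
          rw [h4]
          exact Subgroup.one_mem _)
        obtain ⟨c, hc⟩ := (mem_scalars_iff _).1 hsc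
        refine ⟨(θ g : GL ι F), (θ g).2, c, ?_⟩
        have h5 : h = (θ g : GL ι F) * (((θ g : P) : GL ι F)⁻¹ * h) := by group
        conv_lhs => rw [h5]
        rw [Units.val_mul, hc, ← Matrix.mulVec_mulVec, Matrix.smul_mulVec, Matrix.one_mulVec, Matrix.mulVec_smul]
      · exfalso
        have hk : ((θ g : P) : GL ι F)⁻¹ * h ∈ H := H.mul_mem (H.inv_mem (hPc.le (θ g).2)) hh
        obtain ⟨x, hx⟩ := hno _ hk
        apply hx
        have h3 := hα x
        rw [hg, map_mul, map_mul, map_inv] at h3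
        have h5 : h * (θ x : GL ι F) * h⁻¹ = (θ g : GL ι F) * (θ (itr x) : GL ι F) * (θ g : GL ι F)⁻¹ := h3.symm
        calc ((θ g : P) : GL ι F)⁻¹ * h * (θ x : GL ι F) * (((θ g : P) : GL ι F)⁻¹ * h)⁻¹
            = ((θ g : P) : GL ι F)⁻¹ * (h * (θ x : GL ι F) * h⁻¹) * (θ g : GL ι F) := by group
          _ = (θ (itr x) : GL ι F) := by rw [h5]; group) (m := 13) (by rw [hι])
  obtain ⟨⟨e'⟩, -⟩ := hmain
  exact not_alt ⟨(prE.trans e.symm).trans e'⟩

/-! ### the eigenspaces -/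

theorem N_key {F : Type*} [Field F] {l : F} (hl : 3 * (l * l) = 1) :
    13 * ((1 + l) * (7 + 11 * l)) = (1 + 3 * l) ^ 2 * l ^ 2 * (5 + 6 * l) ^ 2 * (5 - 6 * l) := by
  linear_combination (-91 - 234 * l - 291 * l ^ 2 + 198 * l ^ 3 + 972 * l ^ 4 + 648 * l ^ 5) * hl

theorem N_prod {F : Type*} [Field F] {l : F} (hl : 3 * (l * l) = 1) (b : F) : ∏ k, b * N l k =
    (b ^ 3 * 64896 * (1 - l * l) * (1 + 3 * l) * l * (5 + 6 * l)) ^ 2 * (5 - 6 * l) := by
  have h1 : ∏ k, b * N l k = b ^ 6 * (64896 * 64896) * (1 - l * l) ^ 2 * (13 * ((1 + l) * (7 + 11 * l))) := by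
    rw [Fin.prod_univ_six]
    simp only [N, Matrix.cons_val]
    ring
  rw [h1, N_key hl]
  ring

theorem N_ne {F : Type*} [Field F] (n2 : (2 : F) ≠ 0) (n3 : (3 : F) ≠ 0) (n13 : (13 : F) ≠ 0) {l : F}
    (hl : 3 * (l * l) = 1) (k : Fin 6) : N l k ≠ 0 := by
  have n52 : (52 : F) ≠ 0 := by
    have : (52 : F) = 2 * 2 * 13 := by norm_num
    rw [this]; exact mul_ne_zero (mul_ne_zero n2 n2) n13
  have n104 : (104 : F) ≠ 0 := by
    have : (104 : F) = 2 * 52 := by norm_num
    rw [this]; exact mul_ne_zero n2 n52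
  have n312 : (312 : F) ≠ 0 := by
    have : (312 : F) = 3 * 104 := by norm_num
    rw [this]; exact mul_ne_zero n3 n104
  have h1 : (1 + l) ≠ 0 := by
    intro h
    apply n2
    linear_combination (3 - 3 * l) * h + hl
  have h2 : (1 - l) ≠ 0 := by
    intro h
    apply n2
    linear_combination (3 + 3 * l) * h + hl
  have h3 : (-84 - 132 * l) ≠ 0 := by
    intro h
    have n12 : (12 : F) ≠ 0 := by
      have : (12 : F) = 2 * 2 * 3 := by norm_num
      rw [this]; exact mul_ne_zero (mul_ne_zero n2 n2) n3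
    have h4 : (12 : F) * (2 * 13) = 0 := by
      linear_combination (-3 * (7 - 11 * l)) * h + (12 * 121) * hl
    exact (mul_ne_zero n12 (mul_ne_zero n2 n13)) h4
  fin_cases k
  · exact mul_ne_zero (neg_ne_zero.2 n52) h1
  · exact mul_ne_zero (neg_ne_zero.2 n52) h1
  · exact mul_ne_zero (neg_ne_zero.2 n52) h1
  · exact h3
  · exact mul_ne_zero (neg_ne_zero.2 n104) h2
  · exact mul_ne_zero (neg_ne_zero.2 n312) h2

section main

open Classical in
/-- **the graph automorphism in `Ω`** -/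
theorem exists_l (h2 : (2 : F) ≠ 0) {Q : QuadraticForm F (ι → F)} (hQ : Nondeg Q) (hι : Fintype.card ι = 12)
    {H P : Subgroup (GL ι F)} (hH : IsMaximalIn (omegaGL (Q : (ι → F) → F)) H) (hPc : IsResidualCore H P)
    (θ : G ≃* P) {w : ι → F} (T : Data (rep θ) w) (e : Soc P ≃* T33) :
    ∃ l : F, 3 * (l * l) = 1 ∧ IsSquare (5 - 6 * l) := by
  obtain ⟨h, hh, hgr⟩ := exists_graph h2 hQ hι hH hPc θ T e
  have hle : H ≤ omegaGL (Q : (ι → F) → F) := hH.1.le
  have hiso : ∀ g ∈ H, ∀ v, Q ((g : Matrix ι ι F) *ᵥ v) = Q v := by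
    intro g hg v
    obtain ⟨x, -, hx⟩ := hle hg
    have := x.2 v v
    rw [← hx]
    exact this
  have hpol : ∀ g ∈ H, ∀ x y, QuadraticMap.polar Q ((g : Matrix ι ι F) *ᵥ x) ((g : Matrix ι ι F) *ᵥ y) =
      QuadraticMap.polar Q x y := by
    intro g hg x y
    unfold QuadraticMap.polar
    rw [← Matrix.mulVec_add, hiso g hg, hiso g hg, hiso g hg]
  let B : LinearMap.BilinForm F (ι → F) := QuadraticMap.polarBilin Q
  have hBap : ∀ x y, B x y = QuadraticMap.polar Q x y := fun x y => rfl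
  let hE : End F (ι → F) := Matrix.toLin' (h : Matrix ι ι F)
  have hEap : ∀ x, hE x = (h : Matrix ι ι F) *ᵥ x := fun x => Matrix.toLin'_apply _ _
  have hhE : ∀ (g : G) (x : ι → F), hE (rep θ g x) = rep θ ((g⁻¹).transpose) (hE x) := by
    intro g x
    rw [hEap, hEap, rep_apply, rep_apply]
    have h3 := hgr g
    have h4 : h * (θ g : GL ι F) = (θ (itr g) : GL ι F) * h := by rw [← h3]; group
    rw [Matrix.mulVec_mulVec, Matrix.mulVec_mulVec, ← Units.val_mul, h4]
    rfl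
  have hB : ∀ (g : G) (x y : ι → F), B (rep θ g x) (rep θ g y) = B x y := by
    intro g x y
    exact hpol _ (hPc.le (θ g).2) x y
  have hisoE : ∀ x y, B (hE x) (hE y) = B x y := by
    intro x y
    rw [hEap, hEap]
    exact hpol _ hh x y
  have hsym : ∀ x y, B x y = B y x := fun x y => QuadraticMap.polar_comm Q x y
  have hnd : ∀ x, (∀ y, B x y = 0) → x = 0 := fun x hx => hQ x hx
  obtain ⟨b, l, b0, hl, hb, hu, hhh⟩ := T.polar hB hsym hnd hhE hisoE
  have n3 := T.n3
  have n13 := T.thirteen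
  refine ⟨l, hl, ?_⟩
  let g : Cfsg.isometryGroup F (Q : (ι → F) → F) := ⟨h, fun v _ => hiso h hh v⟩
  have hac : ∀ x, Cfsg.Agent.H932.Spinor.ac g x = hE x := by
    intro x
    rw [hEap]
    try rfl
  have hgg : g * g = 1 := by
    apply Subtype.ext
    apply Units.ext
    apply Matrix.toLin'.injective
    apply LinearMap.ext
    intro x
    have h3 := hhh x
    rw [hEap, hEap, Matrix.mulVec_mulVec] at h3
    rw [Matrix.toLin'_apply]
    change ((h : Matrix ι ι F) * (h : Matrix ι ι F)) *ᵥ x = (Matrix.toLin' (1 : Matrix ι ι F)) x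
    rw [h3, Matrix.toLin'_apply, Matrix.one_mulVec]
  have hl' : 3 * (-l * -l) = 1 := by rw [neg_mul_neg]; exact hl
  have hgram : ∀ l' : F, 3 * (l' * l') = 1 →
      Cfsg.Agent.H932.Spinor.gram (⇑Q) (fun k => T.E l' k) = Matrix.diagonal (fun k => b * N l' k) := by
    intro l' hl'
    ext i j
    have h4 := T.B_E hb hl' i j
    rw [Matrix.diagonal_apply]
    exact h4
  have hdet : ∀ l' : F, 3 * (l' * l') = 1 →
      (Cfsg.Agent.H932.Spinor.gram (⇑Q) (fun k => T.E l' k)).det = ∏ k, b * N l' k := by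
    intro l' hl'
    rw [hgram l' hl', Matrix.det_diagonal]
  have hdne : ∀ l' : F, 3 * (l' * l') = 1 →
      (Cfsg.Agent.H932.Spinor.gram (⇑Q) (fun k => T.E l' k)).det ≠ 0 := by
    intro l' hl'
    rw [hdet l' hl', Finset.prod_ne_zero_iff]
    intro k _
    exact mul_ne_zero b0 (N_ne h2 n3 n13 hl' k)
  have hQn : (QuadraticMap.polarBilin Q).Nondegenerate := by
    refine ⟨fun x hx => hQ x hx, fun x hx => hQ x (fun y => ?_)⟩
    rw [QuadraticMap.polar_comm]
    exact hx y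
  have hv : ∀ k, Cfsg.Agent.H932.Spinor.ac g (T.E l k) = - T.E l k := by
    intro k
    rw [hac, T.h_E hu (ε := 1) (one_mul l) (one_mul 1) hl k, neg_smul, one_smul]
  have hv' : ∀ k, Cfsg.Agent.H932.Spinor.ac g (T.E (-l) k) = T.E (-l) k := by
    intro k
    rw [hac, T.h_E hu (ε := -1) (by rw [neg_mul_neg, one_mul]) (by rw [neg_mul_neg, one_mul]) hl' k, neg_neg, one_smul]
  have hfin := Cfsg.Agent.H932.Spinor.finrank_em_le (k := 6) h2 Q g (fun k => T.E (-l) k) hv' (hdne _ hl') (by omega)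
  obtain ⟨-, hsq⟩ := Cfsg.Agent.H932.Spinor.isSquare_of_mem h2 Q hQn (by omega) g (hle hh) hgg (fun k => T.E l k) hv
    (hdne _ hl) hfin
  have hne := hdne l hl
  rw [hdet l hl, N_prod hl] at hsq hne
  obtain ⟨s, hs⟩ := hsq
  have hs0 : (b ^ 3 * 64896 * (1 - l * l) * (1 + 3 * l) * l * (5 + 6 * l)) ≠ 0 := by
    intro h0
    rw [h0] at hne
    apply hne
    ring
  refine ⟨s / (b ^ 3 * 64896 * (1 - l * l) * (1 + 3 * l) * l * (5 + 6 * l)), ?_⟩
  rw [div_mul_div_comm, eq_div_iff (mul_ne_zero hs0 hs0), ← hs]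
  ring

end main

end Cfsg.Agent.H915.L33
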