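import Cfsg.Agent.H915.L33Core
import Cfsg.Agent.H882.Del.Syl
import Cfsg.Agent.H932.Spinor
import Cfsg.Agent.H830.DiscType

/-!
# `L₃(3)` in `Ω₁₂(p)` (helper915)
-/

set_option autoImplicit false
set_option linter.unusedSectionVars false

namespace Cfsg.Agent.H915.L33

open Cfsg Cfsg.Geo Matrix Module Cfsg.Agent.H915.LD
open Cfsg.Agent.ClassicalGeometry.AutPSL.Auto

universe u

/-! ### the stabiliser of a point -/

/-- the stabiliser of the point `⟨e₁⟩` -/
def KG : Subgroup G where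
  carrier := {g | g.1 *ᵥ e1 = e1 ∨ g.1 *ᵥ e1 = -e1}
  one_mem' := Or.inl (Matrix.one_mulVec _)
  mul_mem' := by
    intro g h hg hh
    change (g * h).1 *ᵥ e1 = e1 ∨ (g * h).1 *ᵥ e1 = -e1
    rw [mulVec_mul']
    rcases hh with hh | hh
    · rw [hh]; exact hg
    · rw [hh, Matrix.mulVec_neg]
      rcases hg with hg | hg
      · right; rw [hg]
      · left; rw [hg, neg_neg]
  inv_mem' := by
    intro g hg
    change (g⁻¹).1 *ᵥ e1 = e1 ∨ (g⁻¹).1 *ᵥ e1 = -e1
    have h := inv_mulVec' g e1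
    rcases hg with hg | hg
    · left; rwa [hg] at h
    · right
      rw [hg, Matrix.mulVec_neg] at h
      have h2 : (g⁻¹).1 *ᵥ e1 = -(-((g⁻¹).1 *ᵥ e1)) := (neg_neg _).symm
      rw [h2, h]

theorem mem_KG {g : G} : g ∈ KG ↔ g.1 *ᵥ e1 = e1 ∨ g.1 *ᵥ e1 = -e1 := Iff.rfl

open Classical in
/-- the number of a point -/
noncomputable def idx (x : X) : Fin 13 := if h : x = 0 then 0 else Classical.choose (pt_surj x h)

theorem idx_spec {x : X} (h : x ≠ 0) : x = pt (idx x) ∨ x = -pt (idx x) := by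
  unfold idx
  rw [dif_neg h]
  exact Classical.choose_spec (pt_surj x h)

theorem idx_pt (i : Fin 13) : idx (pt i) = i := by
  rcases idx_spec (pt_ne i) with h | h
  · exact (pt_inj _ _ (Or.inl h)).symm
  · exact (pt_inj _ _ (Or.inr h)).symm

theorem idx_key : ∀ x y p q : X, (x = p ∨ x = -p) → (y = q ∨ y = -q) → (x = y ∨ x = -y) → (p = q ∨ p = -q) := by
  rintro x y p q (rfl | rfl) (rfl | rfl) (h | h)
  · left; exact h
  · right; exact h
  · right; exact h
  · left; rw [h, neg_neg]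
  · right; rw [← h, neg_neg]
  · left; exact neg_injective h
  · left; exact neg_injective h
  · right; rw [neg_neg] at h; rw [← h, neg_neg]

theorem idx_eq {x y : X} (hx : x ≠ 0) (hy : y ≠ 0) : idx x = idx y ↔ x = y ∨ x = -y := by
  constructor
  · intro h
    rcases idx_spec hx with h1 | h1 <;> rcases idx_spec hy with h2 | h2
    · left; rw [h1, h2, h]
    · right; rw [h1, h2, h, neg_neg]
    · right; rw [h1, h2, h]
    · left; rw [h1, h2, h]
  · intro h
    apply pt_inj
    exact idx_key _ _ _ _ (idx_spec hx) (idx_spec hy) h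

theorem e1_ne : e1 ≠ 0 := by decide

theorem KG_index : KG.index = 13 := by
  have hrel : ∀ g h : G, (QuotientGroup.leftRel KG) g h ↔ idx (g.1 *ᵥ e1) = idx (h.1 *ᵥ e1) := by
    intro g h
    rw [QuotientGroup.leftRel_apply, idx_eq (mulVec_ne g e1_ne) (mulVec_ne h e1_ne), mem_KG, mulVec_mul']
    constructor
    · rintro (h1 | h1)
      · left
        have h2 := congrArg (fun z => g.1 *ᵥ z) h1
        simp only [← mulVec_mul', mul_inv_cancel_left] at h2
        exact h2.symm
      · right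
        have h2 := congrArg (fun z => g.1 *ᵥ z) h1
        simp only [← mulVec_mul', mul_inv_cancel_left, Matrix.mulVec_neg] at h2
        rw [h2, neg_neg]
    · rintro (h1 | h1)
      · left; rw [← h1, inv_mulVec']
      · right
        have h2 : h.1 *ᵥ e1 = -(g.1 *ᵥ e1) := by rw [h1, neg_neg]
        rw [h2, Matrix.mulVec_neg, inv_mulVec']
  let f : G ⧸ KG → Fin 13 := Quotient.lift (fun g : G => idx (g.1 *ᵥ e1)) (fun g h hgh => (hrel g h).1 hgh)
  have hf : Function.Bijective f := by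
    constructor
    · intro a b
      induction a using Quotient.inductionOn
      induction b using Quotient.inductionOn
      intro h
      exact Quotient.sound ((hrel _ _).2 h)
    · intro i
      obtain ⟨g, hg⟩ := exists_mk (pt i) (pt_ne i)
      refine ⟨Quotient.mk _ g, ?_⟩
      change idx (g.1 *ᵥ e1) = i
      rw [hg, idx_pt]
  have h : Nat.card (G ⧸ KG) = Nat.card (Fin 13) := Nat.card_congr (Equiv.ofBijective f hf)
  rw [Nat.card_eq_fintype_card (α := Fin 13), Fintype.card_fin] at h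
  exact h

theorem KG_dc {g g' : G} (hg : g ∉ KG) (hg' : g' ∉ KG) : ∃ k ∈ KG, ∃ k' ∈ KG, g' = k * g * k' := by
  rw [mem_KG, not_or] at hg hg'
  obtain ⟨k, k1, k2⟩ := two_trans (g.1 *ᵥ e1) (mulVec_ne g e1_ne) hg.1 hg.2
  obtain ⟨k', k1', k2'⟩ := two_trans (g'.1 *ᵥ e1) (mulVec_ne g' e1_ne) hg'.1 hg'.2
  have hk : k ∈ KG := Or.inl k1
  have hk' : k' ∈ KG := Or.inl k1'
  have h1 : (k' * k⁻¹ * g).1 *ᵥ e1 = g'.1 *ᵥ e1 := by
    rw [mulVec_mul', ← k2, mulVec_mul', inv_mulVec', k2']
  refine ⟨k' * k⁻¹, KG.mul_mem hk' (KG.inv_mem hk), (k' * k⁻¹ * g)⁻¹ * g', ?_, by group⟩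
  left
  rw [mulVec_mul', ← h1, inv_mulVec']

/-! ### the order -/

theorem card_G_dvd : Nat.card G ∣ 11232 := by
  have h1 : Nat.card G ∣ Nat.card (GL (Fin 3) (ZMod 3)) := by
    let f : G →* GL (Fin 3) (ZMod 3) := Matrix.SpecialLinearGroup.toGL
    have hf : Function.Injective f := by
      intro a b h
      apply Subtype.ext
      exact congrArg (fun x : GL (Fin 3) (ZMod 3) => (x : Matrix (Fin 3) (Fin 3) (ZMod 3))) h
    exact Subgroup.card_dvd_of_injective f hf
  have hfact : Fact (Nat.Prime 3) := ⟨Nat.prime_three⟩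
  have h2 : Nat.card (GL (Fin 3) (ZMod 3)) = 11232 := by
    rw [Matrix.card_GL_field (𝔽 := ZMod 3) 3, Fin.prod_univ_three]
    simp
  rwa [h2] at h1

theorem not_alt : ¬ Nonempty (G ≃* alternatingGroup (Fin 13)) := by
  rintro ⟨e⟩
  have h1 := card_G_dvd
  rw [Nat.card_congr e.toEquiv, nat_card_alternatingGroup, Nat.card_eq_fintype_card, Fintype.card_fin] at h1
  have h2 := Nat.le_of_dvd (by norm_num) h1
  norm_num [Nat.factorial] at h2

end Cfsg.Agent.H915.L33
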