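import Cfsg.Agent.H915.L33Form

/-!
# Modules of dimension 12 of `SL₃(3)`: the action of the graph automorphism (helper915)
-/

set_option autoImplicit false
set_option linter.unusedSectionVars false

namespace Cfsg.Agent.H915.L33

open Module Matrix Cfsg.Agent.H915.Idem

variable {F : Type*} [Field F] {V : Type*} [AddCommGroup V] [Module F V] [FiniteDimensional F V]

/-- the polarity -/
def inc (i j : Fin 13) : ℕ := if pt i ⬝ᵥ pt j = 0 then 1 else 0

theorem inc_symm (i j : Fin 13) : inc i j = inc j i := by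
  unfold inc
  rw [dotProduct_comm]

theorem sum_inc (i : Fin 13) : ∑ j, inc i j = 4 := by
  have h := card_perp i
  rw [Finset.card_filter] at h
  exact h

namespace Data

variable {ρ : G →* End F V} {w : V} (T : Data ρ w)

variable {B : LinearMap.BilinForm F V} (hB : ∀ (g : G) (x y : V), B (ρ g x) (ρ g y) = B x y)
  (hsym : ∀ x y, B x y = B y x) (hnd : ∀ x, (∀ y, B x y = 0) → x = 0)

include hnd in
theorem eq_of_B {x y : V} (h : ∀ i, B x (T.u i) = B y (T.u i)) : x = y := by
  have h1 : x - y = 0 := by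
    apply hnd
    have h2 : B (x - y) = 0 := T.ext (fun i => by rw [map_sub, LinearMap.sub_apply, h, sub_self, LinearMap.zero_apply])
    intro z
    rw [h2, LinearMap.zero_apply]
  exact sub_eq_zero.1 h1

theorem bilin_ext {B' : LinearMap.BilinForm F V} (h : ∀ i j, B (T.u i) (T.u j) = B' (T.u i) (T.u j)) : B = B' :=
  T.ext (fun i => T.ext (fun j => h i j))

variable {h : End F V} (hh : ∀ (g : G) (x : V), h (ρ g x) = ρ ((g⁻¹).transpose) (h x))
  (hiso : ∀ x y, B (h x) (h y) = B x y)

include hB hsym hnd hh hiso in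
theorem polar : ∃ b l : F, b ≠ 0 ∧ 3 * (l * l) = 1 ∧
    (∀ i j, B (T.u i) (T.u j) = b * (1 - 13 * if i = j then 1 else 0)) ∧
    (∀ i, h (T.u i) = l • ∑ j, (inc i j : F) • T.u j) ∧ ∀ x, h (h x) = x := by
  obtain ⟨b, hb⟩ := T.gram hB
  have b0 : b ≠ 0 := by
    rintro rfl
    apply T.sys.ne_zero 0
    apply T.eq_of_B hnd
    intro i
    rw [hb, map_zero, LinearMap.zero_apply, zero_mul]
  obtain ⟨α, hα⟩ : ∃ α, α = B (h (vv ρ w e1)) (vv ρ w e2) := ⟨_, rfl⟩
  obtain ⟨β, hβ⟩ : ∃ β, β = B (h (vv ρ w e1)) (vv ρ w e1) := ⟨_, rfl⟩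
  have hf : ∀ i j, B (h (T.u i)) (T.u j) = β + (α - β) * inc i j := by
    intro i j
    have h1 := T.f_eq hB hh (pt_ne i) (pt_ne j)
    rw [← hα, ← hβ] at h1
    change B (h (vv ρ w (pt i))) (vv ρ w (pt j)) = _
    rw [h1]
    unfold inc
    split_ifs
    · push_cast; ring
    · push_cast; ring
  have hsum : ∀ i, ∑ j, (inc i j : F) = 4 := by
    intro i
    have h1 := congrArg (Nat.cast : ℕ → F) (sum_inc i)
    rw [Nat.cast_sum] at h1
    exact h1
  have hαβ : 4 * α + 9 * β = 0 := by
    have h4 : B (h (T.u 0)) (∑ j, T.u j) = 0 := by rw [T.sys.sum, map_zero]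
    rw [map_sum, Finset.sum_congr rfl (fun j _ => hf 0 j), Finset.sum_add_distrib, ← Finset.mul_sum, hsum,
      Finset.sum_const, Finset.card_univ, Fintype.card_fin, nsmul_eq_mul] at h4
    push_cast at h4
    linear_combination h4
  have hsa : ∀ x y, B (h x) y = B x (h y) := by
    have h1 : B ∘ₗ h = B.compl₂ h := T.ext (fun i => T.ext (fun j => by
      rw [LinearMap.comp_apply, LinearMap.compl₂_apply, hf, hsym (T.u i) (h (T.u j)), hf, inc_symm]))
    intro x y
    exact LinearMap.congr_fun (LinearMap.congr_fun h1 x) y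
  have hhh : ∀ x, h (h x) = x := by
    intro x
    apply T.eq_of_B hnd
    intro i
    rw [hsa, hiso]
  have n9 : (9 : F) ≠ 0 := by
    have : (9 : F) = 3 * 3 := by norm_num
    rw [this]; exact mul_ne_zero T.n3 T.n3
  obtain ⟨l, hl⟩ : ∃ l : F, l = -α / (9 * b) := ⟨_, rfl⟩
  have hl' : 9 * b * l = -α := by
    rw [hl]
    field_simp
  have hβ' : β = 4 * b * l := by
    have e : 9 * (β - 4 * b * l) = 0 := by linear_combination hαβ - 4 * hl'
    exact sub_eq_zero.1 ((mul_eq_zero.1 e).resolve_left n9)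
  have hu : ∀ i, h (T.u i) = l • ∑ j, (inc i j : F) • T.u j := by
    intro i
    apply T.eq_of_B hnd
    intro k
    rw [hf, map_smul, LinearMap.smul_apply, map_sum, LinearMap.sum_apply, smul_eq_mul]
    have h1 : ∀ j, B ((inc i j : F) • T.u j) (T.u k) = b * inc i j - 13 * b * if j = k then (inc i j : F) else 0 := by
      intro j
      rw [map_smul, LinearMap.smul_apply, hb, smul_eq_mul]
      split_ifs <;> ring
    rw [Finset.sum_congr rfl (fun j _ => h1 j), Finset.sum_sub_distrib, ← Finset.mul_sum, ← Finset.mul_sum, hsum,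
      Finset.sum_ite_eq' Finset.univ k, if_pos (Finset.mem_univ k), hβ']
    linear_combination (inc i k : F) * hl'
  refine ⟨b, l, b0, ?_, hb, hu, hhh⟩
  have h1 : B (h (T.u 0)) (h (T.u 0)) = b * (1 - 13) := by
    rw [hiso, hb, if_pos rfl, mul_one]
  have h2 : B (l • ∑ j, (inc 0 j : F) • T.u j) (h (T.u 0)) = l * (4 * α) := by
    rw [map_smul, LinearMap.smul_apply, map_sum, LinearMap.sum_apply, smul_eq_mul]
    congr 1
    have h3 : ∀ j, B ((inc 0 j : F) • T.u j) (h (T.u 0)) = α * inc 0 j := by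
      intro j
      rw [map_smul, LinearMap.smul_apply, hsym, hf, smul_eq_mul]
      unfold inc
      split_ifs
      · push_cast; ring
      · push_cast; ring
    rw [Finset.sum_congr rfl (fun j _ => h3 j), ← Finset.mul_sum, hsum, mul_comm]
  rw [← hu 0, h1] at h2
  have e : (12 * b) * (3 * (l * l) - 1) = 0 := by linear_combination h2 + (4 * l) * hl'
  have h5 := (mul_eq_zero.1 e).resolve_left (mul_ne_zero T.n12 b0)
  exact sub_eq_zero.1 h5

end Data

end Cfsg.Agent.H915.L33
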