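import Cfsg.Agent.H915.Avg3
import Mathlib.LinearAlgebra.Matrix.SpecialLinearGroup
import Mathlib.Data.ZMod.Basic

/-!
# `SL₃(3)`: elements and relations; the stabiliser of a point (helper915)
-/

set_option autoImplicit false
set_option linter.unusedSectionVars false

namespace Cfsg.Agent.H915.L33

open Matrix

/-- `SL₃(3)` -/
abbrev G := Matrix.SpecialLinearGroup (Fin 3) (ZMod 3)

def x12 : G := ⟨!![1, 1, 0; 0, 1, 0; 0, 0, 1], by decide⟩
def x13 : G := ⟨!![1, 0, 1; 0, 1, 0; 0, 0, 1], by decide⟩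
def x23 : G := ⟨!![1, 0, 0; 0, 1, 1; 0, 0, 1], by decide⟩
def h1 : G := ⟨!![1, 0, 0; 0, 2, 0; 0, 0, 2], by decide⟩
def h2 : G := ⟨!![2, 0, 0; 0, 1, 0; 0, 0, 2], by decide⟩
def h3 : G := ⟨!![2, 0, 0; 0, 2, 0; 0, 0, 1], by decide⟩
def s23 : G := ⟨!![2, 0, 0; 0, 0, 1; 0, 1, 0], by decide⟩
def s12 : G := ⟨!![0, 1, 0; 1, 0, 0; 0, 0, 2], by decide⟩
def g0 : G := ⟨!![1, 0, 0; 0, 1, 1; 0, 1, 2], by decide⟩

theorem r_a : x12 * x12 * x12 = 1 := Subtype.ext (by decide)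
theorem r_b : x13 * x13 * x13 = 1 := Subtype.ext (by decide)
theorem r_c : x23 * x23 * x23 = 1 := Subtype.ext (by decide)
theorem r_ab : x12 * x13 = x13 * x12 := Subtype.ext (by decide)
theorem r_cb : x23 * x13 = x13 * x23 := Subtype.ext (by decide)
theorem r_ac : x12 * x23 = x23 * x12 * x13 := Subtype.ext (by decide)
theorem r_h11 : h1 * h1 = 1 := Subtype.ext (by decide)
theorem r_h22 : h2 * h2 = 1 := Subtype.ext (by decide)
theorem r_h33 : h3 * h3 = 1 := Subtype.ext (by decide)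
theorem r_h12 : h1 * h2 = h3 := Subtype.ext (by decide)
theorem r_h21 : h2 * h1 = h3 := Subtype.ext (by decide)
theorem r_h1a : h1 * x12 = x12 * x12 * h1 := Subtype.ext (by decide)
theorem r_h1b : h1 * x13 = x13 * x13 * h1 := Subtype.ext (by decide)
theorem r_h1c : h1 * x23 = x23 * h1 := Subtype.ext (by decide)
theorem r_h2a : h2 * x12 = x12 * x12 * h2 := Subtype.ext (by decide)
theorem r_h2b : h2 * x13 = x13 * h2 := Subtype.ext (by decide)
theorem r_h2c : h2 * x23 = x23 * x23 * h2 := Subtype.ext (by decide)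
theorem r_h3a : h3 * x12 = x12 * h3 := Subtype.ext (by decide)
theorem r_h3b : h3 * x13 = x13 * x13 * h3 := Subtype.ext (by decide)
theorem r_h3c : h3 * x23 = x23 * x23 * h3 := Subtype.ext (by decide)
theorem r_ss : s23 * s23 = 1 := Subtype.ext (by decide)
theorem r_tt : s12 * s12 = 1 := Subtype.ext (by decide)
theorem r_sa : s23 * x12 = x13 * x13 * s23 := Subtype.ext (by decide)
theorem r_sb : s23 * x13 = x12 * x12 * s23 := Subtype.ext (by decide)
theorem r_tc : s12 * x23 = x13 * x13 * s12 := Subtype.ext (by decide)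
theorem r_tb : s12 * x13 = x23 * x23 * s12 := Subtype.ext (by decide)
theorem r_sh1 : s23 * h1 = h1 * s23 := Subtype.ext (by decide)
theorem r_sh2 : s23 * h2 = h3 * s23 := Subtype.ext (by decide)
theorem r_sh3 : s23 * h3 = h2 * s23 := Subtype.ext (by decide)
theorem r_th1 : s12 * h1 = h2 * s12 := Subtype.ext (by decide)
theorem r_th2 : s12 * h2 = h1 * s12 := Subtype.ext (by decide)
theorem r_sg : s23 * g0 = g0 * h2 := Subtype.ext (by decide)
theorem r_ga : g0 * x12 = x12 * x13 * (x12 * x13) * g0 := Subtype.ext (by decide)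
theorem r_gb : g0 * x13 = x12 * (x13 * x13) * (x12 * (x13 * x13)) * g0 := Subtype.ext (by decide)
theorem r_ca : x23 * x12 = x12 * (x13 * x13) * x23 := Subtype.ext (by decide)
theorem r_scs : s23 * x23 * s23 = x23 * s23 * h2 * x23 := Subtype.ext (by decide)
theorem r_sccs : s23 * (x23 * x23) * s23 = x23 * x23 * s23 * h3 * (x23 * x23) := Subtype.ext (by decide)


/-! ### generation of the stabiliser of a point -/

def X12 (t : ZMod 3) : Matrix (Fin 3) (Fin 3) (ZMod 3) := !![1, t, 0; 0, 1, 0; 0, 0, 1]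
def X13 (t : ZMod 3) : Matrix (Fin 3) (Fin 3) (ZMod 3) := !![1, 0, t; 0, 1, 0; 0, 0, 1]
def X23 (t : ZMod 3) : Matrix (Fin 3) (Fin 3) (ZMod 3) := !![1, 0, 0; 0, 1, t; 0, 0, 1]
def D (p q r : ZMod 3) : Matrix (Fin 3) (Fin 3) (ZMod 3) := !![p, 0, 0; 0, q, 0; 0, 0, r]
def S : Matrix (Fin 3) (Fin 3) (ZMod 3) := !![2, 0, 0; 0, 0, 1; 0, 1, 0]

theorem upper : ∀ p q1 q2 m11 m12 m22 : ZMod 3, p * m11 * m22 = 1 →
    !![p, q1, q2; 0, m11, m12; 0, 0, m22] =
      X23 (m12 * m22) * (X12 (q1 * m11) * (X13 (q2 * m22) * D p m11 m22)) := by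
  decide

theorem lower_aux : ∀ p q1 q2 m11 m12 m21 m22 : ZMod 3, p * (m11 * m22 - m12 * m21) = 1 → m21 ≠ 0 →
    !![p, q1, q2; 0, m11, m12; 0, m21, m22] =
      X23 (m11 * m21) * (S * !![2 * p, 2 * q1, 2 * q2; 0, m21, m22; 0, 0, (2 * p * m21)]) := by
  decide

theorem lower : ∀ p q1 q2 m11 m12 m21 m22 : ZMod 3, p * (m11 * m22 - m12 * m21) = 1 → m21 ≠ 0 →
    ∃ a b t1 t2 : ZMod 3, !![p, q1, q2; 0, m11, m12; 0, m21, m22] =
      X23 (m11 * m21) * (S * !![2 * p, a, b; 0, t1, t2; 0, 0, (2 * p * t1)]) :=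
  fun p q1 q2 m11 m12 m21 m22 h h' => ⟨2 * q1, 2 * q2, m21, m22, lower_aux p q1 q2 m11 m12 m21 m22 h h'⟩

end Cfsg.Agent.H915.L33
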