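import Cfsg.Agent.H915.L33Fix2
import Cfsg.Agent.H915.L33Gen

/-!
# Modules of dimension 12 of `SL₃(3)`: the stabiliser of a point fixes a vector (helper915)
-/

set_option autoImplicit false
set_option linter.unusedSectionVars false

namespace Cfsg.Agent.H915.L33

open Module Matrix Cfsg.Agent.H915.Idem

variable {F : Type*} [Field F] {V : Type*} [AddCommGroup V] [Module F V] [FiniteDimensional F V]

theorem r_bb_c : x23 * (x13 * x13) = x13 * x13 * x23 := Subtype.ext (by decide)
theorem r_bb3 : x13 * x13 * (x13 * x13) * (x13 * x13) = 1 := Subtype.ext (by decide)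
theorem r_abb : x12 * (x13 * x13) = x13 * x13 * x12 := Subtype.ext (by decide)
theorem r_ca' : x23 * x12 = x12 * x23 * (x13 * x13) := Subtype.ext (by decide)
theorem r_h3bb : h3 * (x13 * x13) = x13 * x13 * (x13 * x13) * h3 := Subtype.ext (by decide)
theorem r_h1bb : h1 * (x13 * x13) = x13 * x13 * (x13 * x13) * h1 := Subtype.ext (by decide)
theorem r_tbb : s12 * (x13 * x13) = x23 * s12 := Subtype.ext (by decide)
theorem r_tc' : s12 * x23 = x13 * x13 * s12 := Subtype.ext (by decide)

theorem full (ρ : G →* End F V) : Full (ρ x12) (ρ x13) (ρ x23) (ρ h1) (ρ h2) (ρ h3) (ρ s23) (ρ s12) (ρ g0) (ρ g0⁻¹) where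
  H :=
    { ab := ⟨by simpa only [map_mul, map_one] using congrArg ρ r_a, by simpa only [map_mul, map_one] using congrArg ρ r_b,
        by simpa only [map_mul, map_one] using congrArg ρ r_ab⟩
      hc := by simpa only [map_mul, map_one] using congrArg ρ r_c
      cb := by simpa only [map_mul, map_one] using congrArg ρ r_cb
      ac := by simpa only [map_mul, map_one] using congrArg ρ r_ac
      hh := by simpa only [map_mul, map_one] using congrArg ρ r_h11
      kk := by simpa only [map_mul, map_one] using congrArg ρ r_h33
      ha := by simpa only [map_mul, map_one] using congrArg ρ r_h1a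
      hb := by simpa only [map_mul, map_one] using congrArg ρ r_h1b
      ka := by simpa only [map_mul, map_one] using congrArg ρ r_h3a
      kb := by simpa only [map_mul, map_one] using congrArg ρ r_h3b
      kc := by simpa only [map_mul, map_one] using congrArg ρ r_h3c
      ss := by simpa only [map_mul, map_one] using congrArg ρ r_ss
      sa := by
        have h : ρ s23 * ρ x12 = ρ x13 * ρ x13 * ρ s23 := by simpa only [map_mul, map_one] using congrArg ρ r_sa
        have h3 : ρ x13 * ρ x13 * ρ x13 = 1 := by simpa only [map_mul, map_one] using congrArg ρ r_b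
        rw [av_conj h, av_sq h3]
      sb := by
        have h : ρ s23 * ρ x13 = ρ x12 * ρ x12 * ρ s23 := by simpa only [map_mul, map_one] using congrArg ρ r_sb
        have h3 : ρ x12 * ρ x12 * ρ x12 = 1 := by simpa only [map_mul, map_one] using congrArg ρ r_a
        rw [av_conj h, av_sq h3] }
  H' :=
    { ab := ⟨by simpa only [map_mul, map_one] using congrArg ρ r_c, by simpa only [map_mul, map_one] using congrArg ρ r_bb3,
        by simpa only [map_mul, map_one] using congrArg ρ r_bb_c⟩
      hc := by simpa only [map_mul, map_one] using congrArg ρ r_a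
      cb := by simpa only [map_mul, map_one] using congrArg ρ r_abb
      ac := by simpa only [map_mul, map_one] using congrArg ρ r_ca'
      hh := by simpa only [map_mul, map_one] using congrArg ρ r_h33
      kk := by simpa only [map_mul, map_one] using congrArg ρ r_h11
      ha := by simpa only [map_mul, map_one] using congrArg ρ r_h3c
      hb := by simpa only [map_mul, map_one] using congrArg ρ r_h3bb
      ka := by simpa only [map_mul, map_one] using congrArg ρ r_h1c
      kb := by simpa only [map_mul, map_one] using congrArg ρ r_h1bb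
      kc := by simpa only [map_mul, map_one] using congrArg ρ r_h1a
      ss := by simpa only [map_mul, map_one] using congrArg ρ r_tt
      sa := by
        have h : ρ s12 * ρ x23 = ρ x13 * ρ x13 * ρ s12 := by simpa only [map_mul, map_one] using congrArg ρ r_tc'
        rw [av_conj h]
      sb := by
        have h : ρ s12 * (ρ x13 * ρ x13) = ρ x23 * ρ s12 := by simpa only [map_mul, map_one] using congrArg ρ r_tbb
        rw [av_conj h] }
  h22 := by simpa only [map_mul, map_one] using congrArg ρ r_h22
  h12 := by simpa only [map_mul, map_one] using congrArg ρ r_h12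
  h21 := by simpa only [map_mul, map_one] using congrArg ρ r_h21
  h2a := by simpa only [map_mul, map_one] using congrArg ρ r_h2a
  h2b := by simpa only [map_mul, map_one] using congrArg ρ r_h2b
  h2c := by simpa only [map_mul, map_one] using congrArg ρ r_h2c
  h1c := by simpa only [map_mul, map_one] using congrArg ρ r_h1c
  sh1 := by simpa only [map_mul, map_one] using congrArg ρ r_sh1
  sh2 := by simpa only [map_mul, map_one] using congrArg ρ r_sh2
  sh3 := by simpa only [map_mul, map_one] using congrArg ρ r_sh3
  th1 := by simpa only [map_mul, map_one] using congrArg ρ r_th1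
  gg := by rw [← map_mul, inv_mul_cancel, map_one]
  gg' := by rw [← map_mul, mul_inv_cancel, map_one]
  sg := by simpa only [map_mul, map_one] using congrArg ρ r_sg
  ga := by
    have h : ρ g0 * ρ x12 = ρ x12 * ρ x13 * (ρ x12 * ρ x13) * ρ g0 := by
      simpa only [map_mul, map_one] using congrArg ρ r_ga
    have h1 : Pair (ρ x12) (ρ x13) := ⟨by simpa only [map_mul, map_one] using congrArg ρ r_a,
      by simpa only [map_mul, map_one] using congrArg ρ r_b, by simpa only [map_mul, map_one] using congrArg ρ r_ab⟩
    rw [av_conj h, av_sq h1.hm]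
  gb := by
    have h : ρ g0 * ρ x13 = ρ x12 * (ρ x13 * ρ x13) * (ρ x12 * (ρ x13 * ρ x13)) * ρ g0 := by
      simpa only [map_mul, map_one] using congrArg ρ r_gb
    have h1 : Pair (ρ x12) (ρ x13) := ⟨by simpa only [map_mul, map_one] using congrArg ρ r_a,
      by simpa only [map_mul, map_one] using congrArg ρ r_b, by simpa only [map_mul, map_one] using congrArg ρ r_ab⟩
    rw [av_conj h, av_sq h1.hn]
  scs := by simpa only [map_mul, map_one] using congrArg ρ r_scs
  sccs := by simpa only [map_mul, map_one] using congrArg ρ r_sccs


theorem exists_fixed (n2 : (2 : F) ≠ 0) (n3 : (3 : F) ≠ 0) (h12 : finrank F V = 12) (ρ : G →* End F V)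
    (hne : ρ x12 ≠ 1) (hne' : ρ x23 ≠ 1) :
    ∃ w : V, w ≠ 0 ∧ ∀ g : G, g.1 1 0 = 0 → g.1 2 0 = 0 → ρ g w = w := by
  obtain ⟨W, W0, wa, wb, wc, w1, w2, w3, ws⟩ := (full ρ).exists_fix n2 n3 h12 hne hne'
  obtain ⟨v, hv⟩ : ∃ v, W v ≠ 0 := by
    by_contra h
    push Not at h
    exact W0 (LinearMap.ext h)
  let K : Subgroup G :=
    { carrier := {g | ρ g (W v) = W v}
      one_mem' := by
        change ρ 1 (W v) = W v
        rw [map_one]; rfl
      mul_mem' := by
        intro x y (hx : ρ x (W v) = W v) (hy : ρ y (W v) = W v)
        change ρ (x * y) (W v) = W v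
        rw [map_mul]
        change ρ x (ρ y (W v)) = W v
        rw [hy, hx]
      inv_mem' := by
        intro x (hx : ρ x (W v) = W v)
        change ρ x⁻¹ (W v) = W v
        have h : ρ x⁻¹ (ρ x (W v)) = W v := by
          have h1 : ρ x⁻¹ * ρ x = 1 := by rw [← map_mul, inv_mul_cancel, map_one]
          exact LinearMap.congr_fun h1 (W v)
        rwa [hx] at h }
  refine ⟨W v, hv, fun g h10 h20 => ?_⟩
  have hK : g ∈ K := point_mem (K := K) (LinearMap.congr_fun wa v) (LinearMap.congr_fun wb v)
    (LinearMap.congr_fun wc v) (LinearMap.congr_fun w1 v) (LinearMap.congr_fun w2 v) (LinearMap.congr_fun w3 v)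
    (LinearMap.congr_fun ws v) g h10 h20
  exact hK

end Cfsg.Agent.H915.L33
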