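import Cfsg.Agent.H915.L33OmMain
import Mathlib.LinearAlgebra.Trace

/-!
# Modules of dimension 12 of `SL₃(3)`: traces, the type of the form (helper915)
-/

set_option autoImplicit false
set_option linter.unusedSectionVars false

namespace Cfsg.Agent.H915.L33

open Cfsg Cfsg.Geo Matrix Module Cfsg.Agent.H915.LD
open Cfsg.Agent.LieClassical.OrthCore

universe u

/-! ### traces of permutations of a vector system -/

section trace

variable {F : Type*} [Field F] {V : Type*} [AddCommGroup V] [Module F V] {κ : Type*} [Fintype κ]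
  {v : κ → V}

/-- **The trace of a permutation of a vector system is the number of fixed points minus one.** -/
theorem trace_sys [DecidableEq κ] [FiniteDimensional F V] (S : Cfsg.Agent.H882.Del.Sys F v)
    (hc : (Fintype.card κ : F) ≠ 0) {f : V →ₗ[F] V} {σ : Equiv.Perm κ} (h : ∀ i, f (v i) = v (σ i)) :
    LinearMap.trace F V f = ((Finset.univ.filter fun i => σ i = i).card : F) - 1 := by
  obtain ⟨c, hc'⟩ : ∃ c : F, c = (Fintype.card κ : F)⁻¹ := ⟨_, rfl⟩
  have hcc : (Fintype.card κ : F) * c = 1 := by rw [hc', mul_inv_cancel₀ hc]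
  have hex : ∀ i : κ, ∃ φ : V →ₗ[F] F, ∀ j, φ (v j) = (if i = j then 1 else 0) - c := by
    intro i
    apply S.exists_map
    rw [Finset.sum_sub_distrib, Finset.sum_ite_eq, if_pos (Finset.mem_univ i), Finset.sum_const, Finset.card_univ,
      nsmul_eq_mul, hcc, sub_self]
  choose φ hφ using hex
  have hid : f = ∑ i, (φ i).smulRight (v (σ i)) := by
    apply S.ext
    intro j
    rw [h, LinearMap.sum_apply]
    have h1 : ∀ i, ((φ i).smulRight (v (σ i))) (v j) = (if i = j then v (σ i) else 0) - c • v (σ i) := by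
      intro i
      rw [LinearMap.smulRight_apply, hφ, sub_smul]
      split_ifs <;> simp
    rw [Finset.sum_congr rfl (fun i _ => h1 i), Finset.sum_sub_distrib, Finset.sum_ite_eq', if_pos (Finset.mem_univ j),
      ← Finset.smul_sum, Equiv.sum_comp σ v, S.sum, smul_zero, sub_zero]
  conv_lhs => rw [hid]
  rw [map_sum]
  have h1 : ∀ i, LinearMap.trace F V ((φ i).smulRight (v (σ i))) = (if σ i = i then 1 else 0) - c := by
    intro i
    rw [LinearMap.trace_smulRight, hφ]
    simp only [eq_comm]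
  rw [Finset.sum_congr rfl (fun i _ => h1 i), Finset.sum_sub_distrib, Finset.sum_const, Finset.card_univ, nsmul_eq_mul, hcc,
    Finset.sum_boole]

theorem card_fixed_inv [DecidableEq κ] (σ : Equiv.Perm κ) : (Finset.univ.filter fun i => σ⁻¹ i = i).card =
    (Finset.univ.filter fun i => σ i = i).card := by
  congr 1
  ext i
  simp only [Finset.mem_filter, Finset.mem_univ, true_and]
  rw [Equiv.Perm.inv_eq_iff_eq]
  exact eq_comm

end trace

section data

variable {F : Type*} [Field F] {V : Type*} [AddCommGroup V] [Module F V] [FiniteDimensional F V]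
variable {ρ : G →* End F V} {w : V} (T : Data ρ w)

include T in
theorem exists_perm (g : G) : ∃ σ : Equiv.Perm (Fin 13), ∀ i, ρ g (T.u i) = T.u (σ i) := by
  have h1 : ∀ i, ρ g (T.u i) = T.u (idx (g.1 *ᵥ pt i)) := by
    intro i
    change ρ g (vv ρ w (pt i)) = vv ρ w (pt (idx (g.1 *ᵥ pt i)))
    rw [vv_smul ρ w T.hw]
    rcases idx_spec (mulVec_ne g (pt_ne i)) with h | h
    · rw [← h]
    · conv_lhs => rw [h]
      rw [vv_neg ρ w T.hw]
  have hinj : Function.Injective (fun i => idx (g.1 *ᵥ pt i)) := by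
    intro i j h
    apply pt_inj
    rcases (idx_eq (mulVec_ne g (pt_ne i)) (mulVec_ne g (pt_ne j))).1 h with h2 | h2
    · left
      have h3 := congrArg (fun z => (g⁻¹).1 *ᵥ z) h2
      simpa only [inv_mulVec'] using h3
    · right
      have h3 := congrArg (fun z => (g⁻¹).1 *ᵥ z) h2
      simpa only [inv_mulVec', Matrix.mulVec_neg] using h3
  exact ⟨Equiv.ofBijective _ (Finite.injective_iff_bijective.1 hinj), h1⟩

end data

variable {ι : Type} [Fintype ι] [DecidableEq ι] {F : Type u} [Field F] {P : Subgroup (GL ι F)}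

theorem tr_eq {θ : G ≃* P} {w : ι → F} (T : Data (rep θ) w) (g : G) : ∃ σ : Equiv.Perm (Fin 13),
    tr ((θ g : P) : GL ι F) = ((Finset.univ.filter fun i => σ i = i).card : F) - 1 ∧
    tr ((θ g⁻¹ : P) : GL ι F) = ((Finset.univ.filter fun i => σ i = i).card : F) - 1 := by
  obtain ⟨σ, hσ⟩ := exists_perm T g
  have hc : (Fintype.card (Fin 13) : F) ≠ 0 := by
    rw [Fintype.card_fin]
    have := T.thirteen
    exact_mod_cast this
  have htr : ∀ g : G, tr ((θ g : P) : GL ι F) = LinearMap.trace F (ι → F) (rep θ g) := by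
    intro g
    unfold tr
    exact (Matrix.trace_toLin'_eq _).symm
  have hσ' : ∀ i, rep θ g⁻¹ (T.u i) = T.u (σ⁻¹ i) := by
    intro i
    have h1 := hσ (σ⁻¹ i)
    rw [show σ (σ⁻¹ i) = i from σ.apply_symm_apply i] at h1
    rw [← h1, inv_ap]
  refine ⟨σ, ?_, ?_⟩
  · rw [htr, trace_sys T.sys hc hσ]
  · rw [htr, trace_sys T.sys hc hσ', card_fixed_inv]

/-- **Cores of degree 12 with socle `L₃(3)`, characteristic different from 2 and 3** -/
theorem l33_twelve (p : ℕ) [Fact p.Prime] [CharP F p] (hC : Core P) (h2 : (2 : F) ≠ 0) (h3 : (3 : F) ≠ 0)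
    (hι : Fintype.card ι = 12) (e : Soc P ≃* T33) : SD P ∧ Fr P p ∧ p ≠ 13 := by
  obtain ⟨θ, w, T⟩ := exists_data hC e h2 h3 hι
  refine ⟨?_, ?_, ?_⟩
  · intro g hg
    obtain ⟨σ, h4, h5⟩ := tr_eq T (θ.symm ⟨g, hg⟩)
    rw [map_inv] at h5
    rw [MulEquiv.apply_symm_apply] at h4 h5
    change tr g⁻¹ = _ at h5
    rw [h5, ← h4]
  · intro g hg
    obtain ⟨σ, h4, -⟩ := tr_eq T (θ.symm ⟨g, hg⟩)
    rw [MulEquiv.apply_symm_apply] at h4
    change tr g = _ at h4
    rw [h4]
    have h6 : frobenius F p ((((Finset.univ.filter fun i => σ i = i).card : ℕ) : F) - 1) =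
        (((Finset.univ.filter fun i => σ i = i).card : ℕ) : F) - 1 := by
      rw [map_sub, map_natCast, map_one]
    rw [frobenius_def] at h6
    exact h6
  · rintro rfl
    apply T.thirteen
    exact_mod_cast CharP.cast_eq_zero F 13

end Cfsg.Agent.H915.L33
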